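import Cfsg.Agent.TAB.F23C.Tool

/-! `Fi₂₃` : centralizers (helper21, TAB) -/

set_option autoImplicit false
set_option maxRecDepth 100000
set_option Elab.async false

namespace Cfsg.Agent.TAB.F23C

open Cfsg.Agent.TAB.PE Cfsg.Agent.Fischer.Fi23Hom

theorem c29 : Cen 29 384 := cen_of (c := 0x3a3) (d := 1) (by decide +kernel)
  (lv := [⟨[.fix [1, 1], .cnt 0 3, .cell [9, 6], .cell [1, 4]], [[0, 0x8, 0xc, 0x199382e, 0x10bba6e, 0x7ce6e, 0x108d5ec]], 0, 30870, [], 0, []⟩, ⟨[.cnt 0 1, .img 0 1, .cell [9, 15]], [[0xded610]], 0, 5287, [], 0, []⟩, ⟨[.cnt 0 1, .cell [13, 7], .cnt 0 2, .cell [25, 23, 15, 13, 6, 30], .cnt 0 5, .cell [19, 37, 15, 3]], [[0xf426e], [0x367b7b648, 0x241a39ce, 0x38fe3dce], [0x371ec, 0x62c8, 0x6310, 0x3bae, 0x5fae, 0xebb4c, 0x20dce, 0xa45d0, 0xd3c2e, 0x1c98e, 0xbf60e, 0xeeb4e, 0x95a0e,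 0x1cb622c, 0x2a434c, 0xb368e]], 0, 2287, [0x441, 0xe8fa3], 3, [⟨[.cnt 0 1, .img 0 1, .cell [3, 1, 45, 27]], [[0x75190]], [(3400, [[0x379ac8]])]⟩]⟩])
  (ops := [.cnt 0 1, .img 0 6, .cell [43, 55, 30, 9, 7], .cnt 0 1, .img 0 1, .cell [25, 19, 17, 13, 7], .cnt 0 1, .img 0 1])
  (adv := [[0x75190], [0x26f0e], [0xdbf4c]])
  (l := [35, 32, 33, 34, 28, 24, 15, 19, 12, 11, 10, 7, 6, 4, 3, 1, 0]) (by decide +kernel)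

theorem c30 : Cen 30 384 := cen_of (c := 0x30f) (d := 1) (by decide +kernel)
  (lv := [⟨[.fix [1, 1], .cnt 0 3, .cell [9, 6], .cell [1, 4]], [[0x6648, 0xf7dec8, 0x10aba2c, 0x773dce, 0x1c9c62c, 0x14bb95ce, 0x332c518e]], 0, 4828, [], 0, []⟩, ⟨[.cnt 0 1, .img 0 1, .cell [17, 15], .cnt 0 1, .cell [13, 19]], [[0x167ae0e], [0x6648]], 0, 21641, [], 0, []⟩, ⟨[.cnt 0 1, .cell [17, 13], .cnt 0 1, .cell [29, 25, 32, 4], .cnt 0 4, .cell [27, 25, 7], .cnt 0 2, .cell [43, 40, 31, 32, 26, 21, 2]], [[0x1a7be90], [0x30de1ac8, 0x16d18e, 0xdb4dce], [0xd5210, 0xdee48, 0xca0e, 0x33dd0, 0xeae90, 0x5ddce, 0x197c568, 0x1bc5648, 0x9c42e, 0x93ac8, 0x3c1ce, 0xd9aac8, 0x12d5248, 0x15e91ce, 0x197dc2e, 0xcbfae], [0x12e, 0x32ae, 0x434c, 0x942c8]], 0, 9259, [0xc3f0f], 3, [⟨[.cnt 0 1, .img 0 1, .cell [3, 1, 51]], [[0x1c5f2c8]], [(10014,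 [[0x9deee]]), (14298, [[0x1a76dce]])]⟩]⟩])
  (ops := [.cnt 0 1, .img 0 7, .cell [27, 21, 7, 1, 37], .cnt 0 1, .cell [27, 25, 55, 19, 13], .cnt 0 1, .img 0 3, .cell [65, 41, 35, 27, 25, 20], .cnt 0 1, .img 0 1, .cell [73, 51, 82, 81, 27, 33, 28], .cnt 0 1, .img 0 1, .cell [79, 55, 86, 72, 48, 33, 27], .cnt 0 1, .img 0 2, .cell [99, 75, 84, 47, 48, 37], .cnt 0 1, .img 0 1])
  (adv := [[0x1c5f2c8], [0x320e], [0x6270], [0x3fae], [0x6dec], [0x3610], [0x1e2e]])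
  (l := [50, 51, 45, 43, 33, 34, 30, 31, 27, 26, 25, 24, 23, 22, 21, 20, 18, 16, 15, 14, 13, 11, 10, 7, 4, 3, 0]) (by decide +kernel)

theorem c31 : Cen 31 162 := cen_of (c := 0x164) (d := 1) (by decide +kernel)
  (lv := [⟨[.fix [1, 2]], [], 0, 5286, [], 0, []⟩, ⟨[.cnt 0 1, .cell [5, 2]], [[0x10ac62c]], 0, 19259, [], 0, []⟩, ⟨[.cnt 0 1, .cell [13, 10], .cnt 0 4, .cell [17, 11, 3]], [[0x14dd66e], [0x530e, 0xcb648, 0xdc2c8, 0x3aeee, 0xbae8e, 0x445ee, 0xcaac8, 0x6ee0e, 0x2c6c8, 0x6f4e, 0x6e5ec8, 0xb86dec, 0x7ac60e, 0xfb9ac8, 0xb6dec8, 0x18a46c8, 0x1b7e9ce, 0x15ad648, 0x124c1ce, 0x128560e, 0x19c498e, 0x46dec8, 0x3d5ab568, 0x1083990]], 0, 769, [0x164], 8, [⟨[.img 0 1, .cnt 1 1, .cell [1, 3]], [[0x6bae]], [(727, [[0xebd2e]]), (1187, [[0x2ed648]]), (1250, [[0x74d8e]]), (1327, [[0x148f6c8]]), (1802, [[0x4b4e]]),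 (3033, [[0x7326e]])]⟩, ⟨[.img 0 2, .cnt 2 1, .cell [1, 3]], [[0x6bae]], [(1067, [[0xbd5ce]]), (1399, [[0x6dce]]), (2483, [[0x91e0e]])]⟩]⟩])
  (ops := [.cnt 0 1, .img 0 8, .cell [29, 39, 17, 11, 12, 7, 8, 3], .cnt 0 1, .cell [33, 42, 36, 21, 17, 18, 13, 14, 11], .cnt 0 1, .img 0 3, .cell [38, 53, 47, 31, 29, 25, 26, 22, 15], .cnt 0 1, .img 0 1, .cell [49, 53, 37, 35, 29, 32, 30, 27], .cnt 0 1, .img 0 2])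
  (adv := [[0x6bae], [0x5e2e], [0x6e2e], [0x6610], [0x12ee]])
  (l := [33, 30, 26, 28, 22, 21, 20, 19, 18, 17, 16, 15, 14, 12, 10, 9, 8, 7, 5, 4, 2, 1, 0]) (by decide +kernel)

theorem c32 : Cen 32 5832 := cen_of (c := 0x460a) (d := 1) (by decide +kernel)
  (lv := [⟨[.fix [1]], [], 0, 2, [], 0, []⟩, ⟨[.cnt 0 1, .cell [5, 0, 2]], [[0xc]], 0, 27387, [], 0, []⟩, ⟨[.cnt 0 1, .cell [11, 7], .cnt 0 2, .cell [13, 7, 2]], [[0x126f210], [0xd720e, 0x8aed8e, 0x166f60e, 0x1e72e0e, 0x15af62e, 0x218ac6c8]], 0, 657, [], 0, []⟩, ⟨[.cnt 0 1, .img 0 4, .cell [17, 26, 20, 9, 7, 5, 30]], [[0xbf1ec]], 0, 1524, [], 0, []⟩])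
  (ops := [.cnt 0 1, .img 0 3, .cell [21, 17, 27, 13, 3, 1], .cnt 0 1, .cell [43, 37, 25, 23, 21, 9, 11], .cnt 0 1, .img 0 2, .cell [51, 33, 44, 28, 19, 13, 14], .cnt 0 1, .img 0 1])
  (adv := [[0x518e], [0x1ec], [0x26e], [0x3a6e]])
  (l := [28, 25, 22, 23, 18, 17, 16, 12, 11, 10, 9, 7, 5, 4, 3, 1, 0]) (by decide +kernel)

theorem c33 : Cen 33 5832 := cen_of (c := 0x17) (d := 2) (by decide +kernel)
  (lv := [⟨[.fix [1]], [], 0, 0, [], 0, []⟩, ⟨[.cnt 0 1, .cell [5, 1], .cnt 0 2, .cell [11, 6, 0]], [[0], [0xec26e, 0x1185568, 0x1e632c8]], 0, 1604, [], 0, []⟩, ⟨[.cnt 0 1, .cell [9, 13, 1]], [[0x659d0]], 0, 3153, [], 0, []⟩, ⟨[.cnt 0 1, .img 0 5, .cell [29, 17, 11, 9, 7, 5]], [[0xb326e]], 0, 4979, [], 0, []⟩])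
  (ops := [.cnt 0 1, .img 0 4, .cell [31, 23, 36, 17, 5, 0], .cnt 0 1, .img 0 2, .cell [47, 39, 30, 50, 16, 10, 12], .cnt 0 1, .cell [33, 31, 49, 54, 42, 29, 36, 34, 50, 26, 15], .cnt 0 1])
  (adv := [[0xdc22e], [0x3a6e], [0x51ce], [0x5aee]])
  (l := [31, 30, 29, 26, 23, 20, 19, 15, 12, 9, 8, 6, 5, 4, 2, 0]) (by decide +kernel)

theorem c34 : Cen 34 1458 := cen_of (c := 0x6963) (d := 1) (by decide +kernel)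
  (lv := [⟨[.fix [3]], [], 0, 0, [0x1de8d5de5c98dce7513e66, 0xe087ef1799ce7869ebba5e65d, 0x6963], 2, [⟨[.cnt 0 1, .img 0 2, .cell [5, 3, 1]], [[0]], [(1299, [[0xa9e58e]]), (23118, [[0x296de9ce]]), (25068, [[0x978cec8]]), (25376, [[0x1f56bdec]]), (25444, [[0x217d3dce]]), (25475, [[0x2cdcf168]]), (26082, [[0x2ef759ce]]), (27354, [[0x1d3dce]]), (27863, [[0x2fd9c6c8]]), (29677, [[0x2b08de0e]])]⟩]⟩, ⟨[.cnt 0 1, .img 0 2, .cell [9, 3], .cnt 0 5, .cell [17, 15, 13, 3]], [[0], [0x562e, 0x474e, 0x5310, 0x3b30, 0x4e70, 0xa6dec, 0x436c8, 0x55ce, 0x8c2c8, 0x32c8, 0x1a6e, 0xf474c, 0xe6aae, 0xa4aee, 0xa39ee, 0xa9e58e, 0x460e, 0xa5670, 0xa660e, 0xc41ce, 0x85e8e, 0x96e0e, 0xcca6e, 0xc62ae, 0x94c2e, 0x6bec8, 0x199382e]], 0, 2140, [0x1d20c45, 0x79de8c9d], 2, [⟨[.img 0 1, .cnt 1 1, .cell [1, 3]], [[0x3a6e]], [(2524, [[0xe54c2e]]),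 (3321, [[0x93e2e]])]⟩]⟩])
  (ops := [.cnt 0 1, .img 0 8, .cell [17, 15, 38, 34, 13, 5, 0], .cnt 0 1, .img 0 3, .cell [47, 45, 26, 24, 21, 19, 14, 16, 13], .cnt 0 1, .img 0 2, .cell [35, 33, 56, 52, 29, 30, 21], .cnt 0 1])
  (adv := [[0x3a6e], [0x622c], [0x3a70], [0x5ec8]])
  (l := [31, 30, 29, 28, 26, 21, 19, 18, 17, 16, 11, 8, 6, 2, 0]) (by decide +kernel)

theorem c35 : Cen 35 17496 := cen_of (c := 0xf) (d := 3) (by decide +kernel)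
  (lv := [⟨[.fix [3]], [], 0, 200, [0xf], 8, [⟨[.img 0 1, .cnt 1 1, .cell [1, 3]], [[0x6b4c]], [(414, [[0x9ce]]), (954, [[0x56b0]]), (2482, [[0xd61ce]]), (2758, [[0xa2518e]]), (4400, [[0x4ac168]]), (7237, [[0x15e5b0e]]), (9665, [[0x15dbe90]]), (10005, [[0xab5ac8]]), (13528, [[0xea960e]])]⟩]⟩, ⟨[.cnt 0 1, .img 0 2, .cell [9, 3, 4, 6]], [[0x6b4c]], 0, 12438, [], 0, []⟩, ⟨[.cnt 0 1, .img 0 2, .cell [15, 13, 11, 5, 18, 3]], [[0xb962ae]], 0, 5002, [], 0, []⟩])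
  (ops := [.cnt 0 1, .img 0 7, .cell [35, 33, 31, 24, 22, 13, 3, 10, 4, 20], .cnt 0 1, .img 0 2, .cell [39, 33, 31, 42, 40, 21, 11, 18, 12, 28], .cnt 0 1, .cell [43, 33, 46, 44, 36, 34, 25, 23, 21], .cnt 0 1, .img 0 1, .cell [53, 49, 50, 40, 39, 33, 31, 28, 23], .cnt 0 1, .cell [57, 47, 55, 53, 31, 34, 28, 27], .cnt 0 1, .img 0 3, .cell [65, 63, 57, 53, 47, 39, 37], .cnt 0 1, .cell [71, 61, 68, 66, 58, 49, 39, 46, 40, 56], .cnt 0 1, .cell [73, 65, 43, 54, 52, 46, 44, 1, 40, 37], .cnt 0 1, .img 0 2, .cell [73, 82, 51, 23, 41, 31], .cnt 0 1, .img 0 1, .cell [86, 78, 59, 29, 62, 51, 37], .cnt 0 1])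
  (adv := [[0xd460e], [0x3ae], [0x1a6e], [0x3b4c], [0x6f4c], [0x35ee], [0xec8], [0x5d68], [0xe], [0x330], [0x2a8]])
  (l := [46, 45, 44, 41, 40, 39, 36, 35, 32, 31, 30, 29, 27, 26, 25, 23, 21, 18, 16, 15, 13, 11, 7, 6, 5, 3, 2, 0]) (by decide +kernel)

theorem c36 : Cen 36 240 := cen_of (c := 0x4481) (d := 1) (by decide +kernel)
  (lv := [⟨[.fix [1, 1], .cnt 0 2, .cell [7, 1]], [[0, 0x8b5ec, 0xa3f6e]], 0, 16, [], 0, []⟩, ⟨[.cnt 0 1, .img 0 1, .img 2 1, .cell [9, 5, 0]], [[0x112e]], 0, 445, [], 0, []⟩, ⟨[.cnt 0 1, .img 0 1, .cell [21, 13, 11, 18, 3, 24]], [[0xeeac8]], 0, 647, [], 0, []⟩])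
  (ops := [.cnt 0 1, .img 0 8, .cell [45, 34, 24], .cell [35, 42, 26, 44, 11, 7, 9, 3], .cnt 0 1, .img 0 3, .cell [45, 37, 53, 46, 35, 29, 25], .cnt 0 1, .img 0 3])
  (adv := [[0x68ec8], [0x248], [0x1ec]])
  (l := [31, 32, 28, 27, 22, 18, 17, 15, 12, 10, 8, 7, 5, 3, 2, 1, 0]) (by decide +kernel)

theorem c37 : Cen 37 240 := cen_of (c := 0x19) (d := 2) (by decide +kernel)
  (lv := [⟨[.fix [1, 1], .cnt 0 3, .cell [9, 6], .cnt 0 4, .cell [7, 11, 12]], [[0, 0x8, 0xfe3dec, 0x7ce6e, 0x174f4c], [0x6334e, 0x5a26e, 0xb358e, 0x156da6e, 0x3d4b3648, 0x108b18e, 0xf1bec8, 0x1e2420e, 0x65f5ce, 0x142bdce, 0x34f1bec8, 0x2add5648, 0x12669ce, 0x1da360e, 0x5de9ce, 0xf23ec8]], 0, 1642, [], 0, []⟩, ⟨[.cnt 0 1, .img 0 8, .cell [35, 25, 32, 15, 16, 9]], [[0x7330]], 0, 11430, [], 0, []⟩])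
  (ops := [.cnt 0 1, .img 0 3, .cell [51, 47, 28, 6], .cell [53, 49, 9], .cell [31, 25, 39, 49, 32, 17, 9], .cnt 0 1, .img 0 1, .cell [39, 33, 45, 55, 36, 17, 24], .cnt 0 1])
  (adv := [[0xfa3610], [0xe], [0x32e]])
  (l := [29, 30, 31, 24, 25, 26, 21, 19, 18, 8, 7, 6, 5, 3, 2, 0]) (by decide +kernel)

theorem c38 : Cen 38 1200 := cen_of (c := 0x321) (d := 1) (by decide +kernel)
  (lv := [⟨[.fix [1, 1], .cell [3, 0]], [], 0, 2140, [], 0, []⟩, ⟨[.cnt 0 1, .img 0 1, .cell [7, 3], .cnt 0 2, .img 0 1, .cell [11, 9, 5, 16]], [[0x3a6e], [0xc574c, 0x7b2c8, 0xdbec8, 0x1d749ce]], 0, 873, [], 0, []⟩, ⟨[.cnt 0 1, .img 0 4, .cell [25, 23, 17, 5, 8, 6, 3, 0]], [[0x9bdee]], 0, 4036, [], 0, []⟩])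
  (ops := [.cnt 0 1, .img 0 3, .cell [31, 17, 15, 20, 18, 12, 27, 3], .cnt 0 1, .img 0 1, .cell [37, 23, 21, 24, 18, 13, 7], .cnt 0 1, .img 0 3, .cell [47, 51, 35, 32, 30, 28, 43, 17], .cnt 0 1, .cell [51, 49, 56, 40, 23, 47], .cnt 0 1])
  (adv := [[0x368e], [0x1ec], [0x190], [0x3a0e], [0x6190]])
  (l := [33, 30, 29, 26, 27, 25, 22, 20, 18, 15, 14, 13, 12, 10, 9, 7, 6, 5, 4, 2, 0]) (by decide +kernel)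

theorem c39 : Cen 39 44 := cen_of (c := 0x11) (d := 2) (by decide +kernel)
  (lv := [⟨[.fix [1], .cnt 0 2], [[0, 0x106560e]], 1, 509, [0x11], 10, [⟨[.img 0 1, .cnt 1 1, .cell [1, 3]], [[0x374e]], [(480, [[0x136c8]]), (494, [[0x83a6e]]), (751, [[0x3ef0]]), (870, [[0xeb5ee]]), (886, [[0xcb5ec]]), (1289, [[0x1ae0e]]), (1517, [[0xe3ef0]]), (2167, [[0x3dd0]]), (2545, [[0x85568]]), (3619, [[0x993ec8]]), (5397, [[0xcb72e]]), (6576, [[0x993dec]]), (6681, [[0x6cbec8]]), (6798, [[0xc9f6c8]]), (8772, [[0x77474c]])]⟩, ⟨[.img 0 2, .cnt 2 1, .cell [1, 3]], [[0x374e]], [(492, [[0x7d28e]]), (612, [[0x2f30]]), (869, [[0x13670]]), (959, [[0x7574c]]), (1476, [[0x5c190]]), (2150, [[0xbbdd0]]), (2152, [[0x93a2e]]), (2360, [[0x706ae]]), (2378, [[0xe36f0]]), (2740, [[0xab5ec]]), (3620, [[0x3855ec]]), (12036, [[0x7d20e]])]⟩,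 ⟨[.img 0 3, .cnt 3 1, .cell [1, 3]], [[0x374e]], [(421, [[0x35ee]]), (493, [[0x7cf4c]]), (728, [[0x36f0]]), (825, [[0x372e]]), (885, [[0xd426e]]), (903, [[0x8534e]]), (993, [[0x5beae]]), (1141, [[0x6e60e]]), (1700, [[0x1db3648]]), (1772, [[0x1a4b648]]), (2822, [[0x66eb0]]), (2990, [[0x1669ac8]]), (4082, [[0x1475568]])]⟩, ⟨[.img 0 4, .cnt 4 1, .cell [1, 3]], [[0x374e]], [(466, [[0x236c8]]), (597, [[0xf2dce]]), (1609, [[0xb2e0e]]), (1697, [[0x5c66e]]), (1771, [[0x5fa10]]), (2170, [[0xe86ac8]]), (3240, [[0x6d670]]), (3410, [[0x191bec8]])]⟩, ⟨[.img 0 5, .cnt 5 1, .cell [1, 3]], [[0x374e]], [(918, [[0x6db6e]]), (1723, [[0xd3eae]]), (1874, [[0xb374e]]), (2291, [[0x5c9ce]]), (4359, [[0x13696c8]]), (4675, [[0xe2e6e]]), (6575, [[0x3f3ec8]])]⟩, ⟨[.cnt 0 1, .img 0 2, .cell [5, 3, 1]], [[0x374e]], [(10075, [[0x17bba2e]])]⟩,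 ⟨[.cnt 0 1, .img 0 6, .cell [13, 11, 7, 3, 1]], [[0x374e]], [(561, [[0x74e2c]]), (620, [[0x159b648]]), (675, [[0x4ae0e]]), (958, [[0x23670]]), (5301, [[0xe8d648]])]⟩, ⟨[.cnt 0 1, .img 0 8, .cell [17, 15, 11, 7, 1]], [[0x374e]], [(2286, [[0x17696c8]])]⟩]⟩, ⟨[.cnt 0 1, .img 0 10, .cell [21, 19, 24, 26, 11, 9]], [[0x374e]], 0, 5974, [], 0, []⟩])
  (ops := [.cnt 0 1, .img 0 8, .cell [43, 33, 31, 13, 17, 40], .cnt 0 1, .img 0 1, .cell [49, 36, 23, 9, 11, 7], .cnt 0 1, .img 0 3, .cell [55, 47, 62, 58, 31, 32, 23, 28], .cnt 0 1, .img 0 1, .cell [61, 51, 19, 34, 36, 64, 54, 52, 3], .cnt 0 1, .img 0 1, .cell [69, 61, 74, 70, 45, 25, 22, 33], .cnt 0 1, .img 0 1, .cell [69, 81, 63, 61, 74, 72, 56, 58, 44], .cnt 0 1])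
  (adv := [[0x14a5aee], [0x10], [0x36e], [0x290], [0x1ee], [0x310], [0x25ce]])
  (l := [44, 42, 40, 38, 37, 36, 35, 34, 33, 27, 26, 25, 24, 22, 17, 16, 11, 9, 8, 6, 5, 3, 2, 0]) (by decide +kernel)

theorem c40 : Cen 40 72 := cen_of (c := 0x2a2) (d := 1) (by decide +kernel)
  (lv := [⟨[.fix [1, 1, 1, 1], .cnt 0 1, .cell [5, 2]], [[0]], 0, 7589, [], 0, []⟩, ⟨[.cnt 0 1, .img 0 1, .cell [3, 15]], [[0x139eeb0]], 0, 2736, [], 0, []⟩, ⟨[.cnt 0 1, .img 0 2, .cell [25, 12, 20]], [[0x116f168]], 0, 4663, [], 0, []⟩, ⟨[.cnt 0 1, .img 0 2, .cell [1, 37, 30], .cnt 0 2, .cell [29, 11, 9, 34, 17, 3]], [[0xbd7ac8], [0xa534e, 0x10ad248, 0x13bdf4c, 0x26c5ce, 0x24d93ac8, 0xda11ce, 0x1ab6eee, 0x167c62e]], 0, 8738, [], 0, [⟨[.img 0 1, .cnt 1 1, .cell [1, 3]], [[0x14161ce]], [(2835, [[0x1494168]]), (12948, [[0x19625ce]]),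 (19890, [[0x29c9aac8]]), (27167, [[0x330855ec]])]⟩]⟩])
  (ops := [.cnt 0 1, .img 0 10, .cell [47, 26, 44, 9, 11, 14, 18, 12, 5], .cnt 0 1, .img 0 3, .cell [55, 36, 70, 63, 56, 31, 13], .cnt 0 1, .cell [57, 40, 74, 67, 60, 31, 34, 28], .cnt 0 1, .img 0 3, .cell [71, 50, 68, 3, 5, 19], .cnt 0 1, .img 0 2])
  (adv := [[0x14161ce], [0x210], [0x4f4e], [0x42c8], [0xe]])
  (l := [47, 46, 43, 42, 39, 38, 37, 34, 33, 32, 29, 23, 20, 16, 14, 13, 12, 11, 9, 7, 6, 5, 4, 2, 1, 0]) (by decide +kernel)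

theorem c41 : Cen 41 144 := cen_of (c := 0x264) (d := 1) (by decide +kernel)
  (lv := [⟨[.fix [1, 1, 1], .cnt 0 1, .cell [5, 0, 2]], [[0]], 0, 1306, [], 0, []⟩, ⟨[.cnt 0 1, .img 0 1, .cell [13, 9], .cnt 0 3, .cell [17, 23, 10], .cnt 0 3, .cell [25, 19, 28, 9, 5]], [[0x2cb4e], [0xdbe2e, 0xcb5ec, 0x5f9ce, 0x70a2e, 0x5d290, 0x10b6e48, 0xc3eae, 0xdc26e], [0x222e, 0xdbdee, 0x9326e, 0x6aac8, 0x706ae, 0x9a22e, 0x15bb6c8, 0xe42b0, 0x64a10, 0x1244a6e, 0x1b747ae, 0x3908dec8, 0x2758b648, 0x1875b30, 0x10857ae]], 0, 1198, [], 0, []⟩])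
  (ops := [.cnt 0 1, .img 0 10, .cell [27, 35, 44, 37, 17, 11, 4], .cnt 0 1, .img 0 1, .cell [33, 41, 50, 43, 19, 24, 13], .cnt 0 1, .img 0 3, .cell [67, 52, 50, 42, 31, 29, 34, 24, 20], .cnt 0 1, .img 0 2])
  (adv := [[0x75568], [0x766e], [0x6d8e], [0x2e10]])
  (l := [38, 37, 34, 33, 29, 30, 31, 25, 26, 27, 22, 21, 20, 19, 18, 16, 15, 14, 12, 10, 9, 7, 4, 0]) (by decide +kernel)

theorem c42 : Cen 42 288 := cen_of (c := 0x261) (d := 1) (by decide +kernel)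
  (lv := [⟨[.fix [1, 1, 2], .cnt 0 1, .cell [5, 1]], [[0]], 0, 1897, [], 0, []⟩, ⟨[.cnt 0 1, .img 0 1, .cell [9, 3, 0, 15, 12], .cnt 0 2, .img 0 1, .cell [15, 11, 9], .cnt 0 2, .cell [27, 22, 24], .cnt 0 2, .cell [28, 22, 9, 0, 17]], [[0x8530e], [0x23ec8, 0xb2e6e], [0x109ce2c, 0x172ba2e], [0x2d16d2c8, 0x39e746c8]], 0, 788, [], 0, []⟩, ⟨[.cnt 0 1, .img 0 8, .cell [51, 45, 43, 29, 24, 13, 15]], [[0x6eee]], 0, 2522, [], 0, []⟩])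
  (ops := [.cnt 0 1, .img 0 5, .cell [59, 27, 44, 46, 50, 32, 21, 11, 9], .cell [33, 31, 46, 68, 11, 12, 60, 8, 6, 2, 52], .cnt 0 1, .img 0 3, .cell [45, 43, 41, 57, 70, 38, 21], .cnt 0 1])
  (adv := [[0xf7dec8], [0xe], [0x22c]])
  (l := [42, 41, 38, 34, 33, 24, 23, 22, 21, 18, 16, 12, 7, 5, 4, 2, 0]) (by decide +kernel)

theorem c43 : Cen 43 432 := cen_of (c := 0x2aa) (d := 1) (by decide +kernel)
  (lv := [⟨[.fix [1, 1, 1, 1]], [], 0, 0, [], 0, []⟩, ⟨[.cnt 0 1, .cell [5, 2]], [[0]], 0, 20254, [], 0, []⟩, ⟨[.cnt 0 1, .cell [1, 13], .cnt 0 2, .cell [12, 21, 16, 6], .cnt 0 4, .cell [7, 30, 32]], [[0x10d59ee], [0x7622e, 0xba6e, 0x13b3d2e, 0x3293648, 0x18420e, 0x25569ac8, 0xd3a2e, 0x12d3ec8], [0xccf4c, 0xd7ac8, 0x39d5ec, 0xbaf4e, 0xe5e0e, 0x64a48, 0x14b662c, 0x6dcc2e, 0x1cb51ce, 0x15841d0, 0x1d895ce, 0xd9eeb0,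 0xe5afae, 0x1496dce, 0x224ec6c8]], 0, 378, [], 0, []⟩])
  (ops := [.cnt 0 1, .img 0 9, .cell [41, 25, 19, 15, 46, 16, 7], .cnt 0 1, .img 0 2, .cell [55, 25, 23, 36, 11], .cnt 0 1, .img 0 3])
  (adv := [[0x20e], [0x2e], [0x3dd0]])
  (l := [36, 33, 32, 29, 26, 27, 21, 22, 23, 18, 16, 15, 10, 9, 7, 6, 5, 3, 2, 1, 0]) (by decide +kernel)

theorem c44 : Cen 44 864 := cen_of (c := 0x324) (d := 1) (by decide +kernel)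
  (lv := [⟨[.fix [1, 1, 2], .cnt 0 2, .cell [7, 4]], [[0, 0x8, 0x7ce6e]], 0, 1720, [], 0, []⟩, ⟨[.cnt 0 1, .img 0 1, .cell [11, 3, 0, 17, 14], .cnt 0 2, .img 0 1, .cell [15, 11, 9], .cnt 0 2, .cell [15, 3, 22, 10]], [[0x84a10], [0x33a6e, 0x5426e], [0x156d74c, 0xc6b6c8]], 0, 2201, [], 0, []⟩, ⟨[.cnt 0 1, .img 0 11, .cell [39, 45, 29, 51, 23, 18, 20]], [[0x2da0e]], 0, 8977, [], 0, []⟩])
  (ops := [.cnt 0 1, .img 0 7, .cell [49, 71, 56, 62, 64, 35, 40, 54, 13, 32, 30], .cnt 0 1, .cell [53, 75, 60, 66, 68, 39, 44, 58, 36, 5, 34], .cnt 0 1, .img 0 3, .cell [57, 71, 85, 63, 69, 39, 17], .cnt 0 1, .img 0 1])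
  (adv := [[0x8bfae], [0x30e], [0x290], [0x22c]])
  (l := [47, 45, 46, 42, 37, 30, 27, 23, 20, 17, 15, 11, 8, 3, 1, 0]) (by decide +kernel)

theorem c45 : Cen 45 3456 := cen_of (c := 0x6962) (d := 1) (by decide +kernel)
  (lv := [⟨[.fix [1, 1, 1, 1], .cnt 0 2, .cell [11, 6, 1]], [[0x10ac568, 0x10f4c2e, 0x1784c2e]], 0, 6, [], 0, []⟩, ⟨[.cnt 0 1, .img 0 3, .cell [7, 5, 12, 3, 22]], [[0x10]], 0, 322, [], 0, []⟩])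
  (ops := [.cnt 0 1, .img 0 8, .cell [25, 35, 23, 17, 14, 12, 10, 8, 4, 0], .cnt 0 1, .img 0 2, .cell [53, 37, 35, 33, 42, 24, 22, 21], .cnt 0 1, .img 0 2])
  (adv := [[0xebac8], [0x20e], [0x310]])
  (l := [28, 29, 30, 26, 24, 22, 21, 20, 19, 16, 14, 12, 6, 5, 4, 2, 1, 0]) (by decide +kernel)

theorem c46 : Cen 46 1152 := cen_of (c := 0x7963) (d := 1) (by decide +kernel)
  (lv := [⟨[.fix [1, 1, 2], .cell [3, 0]], [], 0, 4150, [], 0, []⟩, ⟨[.cnt 0 1, .img 0 1, .cell [7, 3, 1]], [[0xd4e6e]], 0, 4966, [], 0, []⟩, ⟨[.cnt 0 1, .img 0 1, .cell [9, 3, 1, 21, 18]], [[0xa3f0e]], 0, 0, [], 0, []⟩, ⟨[.cnt 0 1, .img 0 1, .cell [19, 11, 3, 16, 8, 28, 1]], [[0]], 0, 995, [], 0, []⟩])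
  (ops := [.cnt 0 1, .img 0 5, .cell [35, 33, 18, 16, 7, 5, 10, 0], .cnt 0 1, .cell [39, 37, 31, 28, 22, 20, 13, 15], .cnt 0 1, .img 0 3])
  (adv := [[0x63a0e], [0x22c], [0x30e]])
  (l := [27, 29, 24, 23, 20, 19, 17, 16, 15, 12, 11, 10, 9, 7, 5, 3, 2, 1, 0]) (by decide +kernel)

theorem c47 : Cen 47 216 := cen_of (c := 0x2a4) (d := 1) (by decide +kernel)
  (lv := [⟨[.fix [1, 2, 1], .cnt 0 1], [[0, 0x1ce5c20e, 0x3156bdce]], 1, 0, [], 0, []⟩, ⟨[.cnt 0 1, .cell [7, 2]], [[0]], 0, 29662, [], 0, []⟩, ⟨[.cnt 0 1, .cell [7, 15, 0]], [[0x1ce5c20e]], 0, 1475, [], 0, []⟩, ⟨[.cnt 0 1, .img 0 2, .cell [25, 17, 11]], [[0x6442e]], 0, 5903, [], 0, []⟩, ⟨[.cnt 0 1, .img 0 2, .cell [11, 37, 32], .cnt 0 4, .cell [37, 31, 23, 24, 15], .cell [1, 4], .cnt 0 1, .img 0 2, .cell [35, 46, 31, 40, 25, 51, 12]], [[0xb5dc2e],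 [0x6248, 0x3290, 0x65ce, 0xac62c, 0x12dd648, 0x153160e, 0x186bdec, 0xb7270], [0x6dfae, 0x76a6e, 0x7db4e, 0x493ec8, 0x1aa35ee, 0xb3610, 0x1564e0e, 0xd446c8]], 0, 23738, [0x2a4a92a4], 3, [⟨[.img 0 1, .cnt 1 1, .cell [1, 3]], [[0x13af62e]], [(9163, [[0x6b568]])]⟩]⟩])
  (ops := [.cnt 0 1, .img 0 8, .cell [35, 72, 56, 54, 3, 5, 16, 12, 1], .cnt 0 1, .img 0 3, .cell [67, 57, 82, 64, 25, 11], .cnt 0 1, .img 0 2, .cell [65, 50, 86, 80, 62, 19, 26, 22, 20, 42], .cnt 0 1, .img 0 3])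
  (adv := [[0x13af62e], [0x2e], [0x260e], [0x39ce]])
  (l := [52, 50, 49, 45, 42, 41, 40, 36, 35, 30, 31, 33, 27, 26, 25, 20, 19, 18, 17, 12, 11, 10, 9, 7, 5, 3, 1, 0]) (by decide +kernel)

theorem c48 : Cen 48 288 := cen_of (c := 0x4c62) (d := 1) (by decide +kernel)
  (lv := [⟨[.fix [1, 1, 1, 1], .cnt 0 3, .cell [5, 11]], [[0, 0x108d5ec, 0x8420e, 0x2ab60e]], 0, 6526, [], 0, []⟩, ⟨[.cnt 0 1, .img 0 1, .cell [17, 14], .cnt 0 4, .cell [25, 7]], [[0x1c13a6e], [0x474c, 0x382e, 0x2fd73a2e, 0x30b420e, 0x2967bec8, 0x1718d60e, 0x1b2b3dce, 0x564f1ca48]], 0, 17976, [], 0, []⟩, ⟨[.cnt 0 1, .cell [19, 17, 24, 28, 36]], [[0x8420e]], 0, 45, [0x5703b4cd54, 0x41a7624cd54], 3, [⟨[.img 0 1, .cnt 1 1, .cell [1, 3]], [[0x428e]], [(9, [[0x248]]), (14, [[0x32e]]), (66, [[0x5248]]), (553, [[0xe3d8e]]), (2123, [[0x6f1ee]]),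 (11360, [[0x6d2b0]])]⟩, ⟨[.cnt 0 1, .img 0 1, .cell [3, 1, 35, 14, 16, 9, 26]], [[0x428e]], [(99, [[0x77ae]]), (137, [[0x7b6e]]), (146, [[0x2a90]]), (3828, [[0x9eb4c]])]⟩]⟩, ⟨[.cnt 0 1, .img 0 7, .cell [21, 38, 13, 7, 10, 5]], [[0x428e]], 0, 18061, [], 0, []⟩])
  (ops := [.cnt 0 1, .img 0 2, .cell [67, 49, 21, 22, 18, 3], .cnt 0 1, .img 0 1, .cell [27, 21, 25, 36, 19, 11], .cnt 0 1, .img 0 1, .cell [41, 37, 32, 34, 15, 16], .cnt 0 1])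
  (adv := [[0x1c7da6e], [0x10], [0xe], [0x248]])
  (l := [38, 40, 35, 32, 31, 26, 29, 23, 20, 19, 18, 17, 16, 15, 14, 13, 9, 8, 5, 3, 2, 0]) (by decide +kernel)

theorem c49 : Cen 49 1152 := cen_of (c := 0x367) (d := 1) (by decide +kernel)
  (lv := [⟨[.fix [1, 1, 1, 1], .cell [5, 0], .cnt 0 1, .cnt 2 2, .cell [11, 8]], [[0xb84c2e, 0x126c74c, 0x108d5ec], [0, 0x10bba6e, 0x48420e, 0x10339ce]], 0, 1, [], 0, []⟩, ⟨[.cnt 0 1, .img 0 1, .cell [7, 3]], [[0x8]], 0, 6531, [], 0, []⟩, ⟨[.cnt 0 1, .img 0 1, .cell [3, 29]], [[0x199382e]], 0, 5260, [], 0, []⟩, ⟨[.cnt 0 1, .img 0 1, .cell [19, 10, 39, 34], .cnt 0 2, .cell [23, 15, 24, 9, 33], .cnt 0 5, .cell [29, 27, 19, 20, 14, 3], .cnt 0 3, .cell [21, 43, 35, 22, 54, 2, 0]], [[0xb84c2e], [0xe79dce, 0x7b60e, 0x1b7b60e, 0x125da10, 0xd23dec, 0xa75ac8, 0x1a705ce, 0x17e39ce],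 [0x4190, 0x7270, 0xce20e, 0x6c42e, 0xd960e, 0x96330, 0xef5ce, 0x2d72c8, 0xdee70, 0xfa72c8, 0x1de85ce, 0x14ac6ee, 0x1ad3d8e, 0xfb11ce, 0x18c89ce, 0x14ad190], [0x76c8, 0x7310, 0xc2610, 0x6a70, 0xb1ac8, 0x6bae, 0x7deee, 0x5dce]], 0, 3344, [0x739c], 3, [⟨[.cnt 0 1, .img 0 1, .cell [3, 1, 29]], [[0x1cd72c8]], [(366, [[0x1ca8e]])]⟩]⟩])
  (ops := [.cnt 0 1, .img 0 8, .cell [67, 65, 24, 44, 76, 9, 11], .cnt 0 1])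
  (adv := [[0x1cd72c8], [0x26e]])
  (l := [42, 40, 36, 35, 34, 31, 26, 24, 18, 19, 20, 21, 15, 10, 8, 3, 2, 0]) (by decide +kernel)

theorem c50 : Cen 50 576 := cen_of (c := 0x26a) (d := 1) (by decide +kernel)
  (lv := [⟨[.fix [1, 2], .cnt 0 2, .cell [7, 4], .cnt 0 4, .cell [7, 12]], [[0, 0x5d68, 0x8c1ce, 0x23a0e, 0x67290, 0x148b6c8, 0x1af3610], [0xc, 0x2a8, 0x1ee, 0xcbf6e, 0x5b6b0, 0x5a60e, 0xb4e6e, 0x15cd248, 0xd3a6e, 0xeaf30, 0x12a36c8, 0xd4e6e, 0xeae10, 0x10ac62c, 0xeb66e, 0x165a5ce, 0xa326e, 0xdcb5ec, 0x199382e, 0x16bdac8, 0x1784c2e, 0x16edac8, 0x16839ee, 0xdb6d2e]], 0, 83, [], 0, []⟩, ⟨[.cnt 0 1, .img 0 5, .cell [23, 21, 11, 9, 6, 2]], [[0x2ee]], 0, 32, [], 0, []⟩])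
  (ops := [.cnt 0 1, .img 0 4, .cell [23, 35, 18, 20, 24, 40, 7, 3], .cnt 0 1, .img 0 3, .cell [35, 33, 27, 50, 43, 29, 18], .cnt 0 1, .img 0 2, .cell [43, 41, 35, 53, 36, 59, 38, 32], .cnt 0 1, .img 0 2])
  (adv := [[0x422c], [0x10], [0xe], [0x2e]])
  (l := [35, 33, 28, 29, 30, 31, 25, 24, 23, 17, 15, 14, 13, 11, 10, 9, 8, 6, 5, 4, 1, 0]) (by decide +kernel)

theorem c51 : Cen 51 3456 := cen_of (c := 0x1b) (d := 1) (by decide +kernel)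
  (lv := [⟨[.fix [1, 2, 1]], [], 0, 0, [], 0, []⟩, ⟨[.cnt 0 1, .cell [5, 1], .cnt 0 2, .cell [7, 13, 10], .cnt 0 1, .cell [15, 10, 12]], [[0], [0x10bba6e, 0x48420e, 0x10339ce], [0xb84c2e, 0x126c74c, 0x108d5ec]], 0, 1, [], 0, []⟩, ⟨[.cnt 0 1, .cell [5, 1], .cnt 0 2, .cell [27, 23]], [[0x8], [0x199382e, 0x1ef518e, 0x3437b648]], 0, 8005, [], 0, []⟩, ⟨[.cnt 0 1, .cell [13, 1, 35]], [[0x10bba6e]], 0, 5260, [], 0, []⟩, ⟨[.cnt 0 1, .img 0 2, .cell [39, 10, 47, 42], .cnt 0 2, .cell [11, 16, 41, 25], .cnt 0 5, .cell [45, 41, 8], .cnt 0 1, .cell [33, 22, 41, 18, 7], .cnt 0 3, .cell [41, 68, 34, 32, 49, 26, 14], .cnt 0 3, .cell [49, 76, 42, 38, 57, 35, 22], .cell [35, 62, 59, 68, 13, 5]], [[0xb84c2e], [0x195cec8, 0x87b60e, 0x14641ce, 0x101b9ce, 0x135b66e, 0x1082eee, 0x1a75bae, 0x1a64210], [0x4190, 0x7270, 0xce20e,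 0x6c42e, 0xd960e, 0x96330, 0xef5ce, 0x2d72c8, 0xdee70, 0xfa72c8, 0x1de85ce, 0x14ac6ee, 0x1ad3d8e, 0xfb11ce, 0x18c89ce, 0x14ad190], [0x199382e], [0x76c8, 0x7310, 0xc2610, 0x6a70, 0xb1ac8, 0x6bae, 0x7deee, 0x5dce], [0x310, 0x4730, 0x798e, 0xf6f4c, 0x7eac8, 0xf118e, 0xc658e, 0xdebae]], 0, 17088, [0x6f7b], 3, [⟨[.cnt 0 1, .img 0 1, .cell [3, 1, 43]], [[0x149568e]], [(7735, [[0x15ae9ec]])]⟩]⟩])
  (ops := [.cnt 0 1, .img 0 7, .cell [33, 71, 15, 13, 39], .cnt 0 1, .img 0 1])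
  (adv := [[0x149568e], [0x248]])
  (l := [53, 52, 45, 41, 42, 38, 30, 25, 18, 20, 16, 13, 10, 6, 3, 1, 0]) (by decide +kernel)

theorem c52 : Cen 52 2592 := cen_of (c := 0x262) (d := 1) (by decide +kernel)
  (lv := [⟨[.fix [1, 2, 1], .cell [3, 0]], [], 0, 108, [], 0, []⟩, ⟨[.cnt 0 1, .img 0 2, .cell [11, 4], .cnt 0 4, .cell [15, 7]], [[0x1270], [0, 0xb30, 0x1abb95ce, 0x92a39ce, 0x2d6de9ce, 0x2f573a2e, 0x19bf4dce, 0x2cd6be6e]], 0, 17976, [], 0, []⟩, ⟨[.cnt 0 1, .cell [21, 19, 0, 17, 30]], [[0x8420e]], 0, 308, [0x441, 0x26298a62], 3, [⟨[.img 0 1, .cnt 1 1, .cell [1, 3]], [[0x3aeee]], [(218, [[0x8dd68]]), (322, [[0xebac8]]), (1767, [[0x13ac8]]), (14870, [[0x378d71ec]]), (18987, [[0x119c5d0]]), (23717, [[0x3930c1ce]])]⟩, ⟨[.cnt 0 1, .img 0 1, .cell [3, 1, 29, 15, 9]], [[0x3aeee]], [(234, [[0x32c8]]), (656,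 [[0x9faae]]), (13664, [[0x2b8ad248]]), (22389, [[0x119c6c8]])]⟩]⟩, ⟨[.cnt 0 1, .img 0 9, .cell [43, 30, 40, 15, 16, 11, 12, 5]], [[0x3aeee]], 0, 19726, [], 0, []⟩])
  (ops := [.cnt 0 1, .cell [17, 13, 11, 15, 36, 58, 1], .cnt 0 1, .img 0 3, .cell [33, 27, 31, 46, 60, 58, 11], .cnt 0 1, .cell [35, 25, 62, 60, 32, 30, 11, 1], .cnt 0 1, .img 0 3, .cell [73, 41, 61, 70, 54, 48, 34, 36, 15], .cnt 0 1, .cell [79, 45, 41, 39, 43, 64, 86, 25], .cnt 0 1, .img 0 2, .cell [59, 73, 60, 86, 74, 50, 5, 23, 52, 36, 9], .cnt 0 1])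
  (adv := [[0x159b9ce], [0x30e], [0x32e], [0x18e], [0x2ee], [0x28e], [0x2dce]])
  (l := [44, 43, 42, 38, 39, 35, 32, 31, 30, 29, 28, 27, 26, 25, 23, 20, 18, 13, 11, 10, 8, 4, 2, 0]) (by decide +kernel)

end Cfsg.Agent.TAB.F23C
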