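import Cfsg.Agent.TAB.F23C.Tool

/-! `Fi₂₃` : centralizers (helper21, TAB) -/

set_option autoImplicit false
set_option maxRecDepth 100000
set_option Elab.async false

namespace Cfsg.Agent.TAB.F23C

open Cfsg.Agent.TAB.PE Cfsg.Agent.Fischer.Fi23Hom

theorem c53 : Cen 53 8640 := cen_of (c := 0x5e81) (d := 1) (by decide +kernel)
  (lv := [⟨[.fix [1]], [], 0, 0, [], 0, []⟩, ⟨[.cnt 0 1, .cell [5, 0, 2]], [[0]], 0, 21, [], 0, []⟩, ⟨[.cnt 0 1, .cell [5, 1], .cnt 0 2, .cell [13, 7, 3, 0]], [[0x5d68], [0xb2ac8, 0xebb4c, 0xc6f0e]], 0, 4357, [], 0, []⟩, ⟨[.cnt 0 1, .img 0 10, .cell [27, 32, 19, 38, 15, 16, 7]], [[0xb3d2e]], 0, 14592, [], 0, []⟩])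
  (ops := [.cnt 0 1, .img 0 3, .cell [45, 19, 39, 28, 22, 13, 5], .cnt 0 1, .img 0 3, .cell [55, 43, 37, 31, 49, 60, 40, 38, 10], .cnt 0 1, .img 0 1, .cell [57, 49, 41, 60, 66, 42, 36, 33], .cnt 0 1, .img 0 3, .cell [67, 59, 55, 45, 71, 52, 46], .cnt 0 1])
  (adv := [[0x2c983ac8], [0x22e], [0x1d0], [0x2e], [0x5ce]])
  (l := [41, 40, 37, 34, 35, 31, 30, 28, 27, 26, 25, 24, 23, 16, 13, 10, 8, 7, 5, 4, 3, 2, 0]) (by decide +kernel)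

theorem c54 : Cen 54 2592 := cen_of (c := 0x5648) (d := 1) (by decide +kernel)
  (lv := [⟨[.fix [2, 1, 1, 2], .cnt 0 3, .cell [13, 8, 5]], [[0x92c6c8, 0x15f46c8, 0x66f4e, 0x17e2dec, 0x836ee, 0x1ca41ce, 0x126ea2e, 0x1384c2e, 0x7d20e, 0xa7d20e, 0xe7db30, 0x1ad422e, 0x1e90dce, 0x143ba2e, 0x157d20e, 0x1990dce, 0xbb9ce, 0x1bb9ce, 0x2bdcb1ce, 0x1965bd8e]], 0, 814, [], 0, []⟩, ⟨[.cnt 0 1, .img 0 5, .cell [18, 11, 9, 28, 7, 26]], [[0x6aae]], 0, 3597, [], 0, []⟩])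
  (ops := [.cnt 0 1, .img 0 11, .cell [44, 31, 29, 36, 21, 22, 19], .cnt 0 1, .img 0 2, .cell [47, 57, 52, 64, 27, 13], .cnt 0 1, .img 0 2, .cell [53, 51, 60, 63, 33, 30, 28, 46, 24], .cnt 0 1, .img 0 3])
  (adv := [[0x85a10], [0x210], [0x3ae], [0x3ec8]])
  (l := [38, 35, 37, 32, 31, 30, 29, 27, 24, 21, 20, 19, 18, 15, 14, 13, 11, 9, 7, 6, 5, 3, 2, 1, 0]) (by decide +kernel)

theorem c55 : Cen 55 78 := cen_of (c := 0x13) (d := 2) (by decide +kernel)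
  (lv := [⟨[.fix [1]], [], 0, 0, [], 0, []⟩, ⟨[.cnt 0 1, .cell [5, 2]], [[0]], 0, 26746, [], 0, []⟩, ⟨[.cnt 0 1, .cell [7, 1]], [[0xf78c6c8]], 0, 196, [0x273], 12, [⟨[.img 0 2, .cnt 2 1, .cell [1, 3]], [[0x3d2e]], [(1092, [[0x142ae]]), (1122, [[0x65290]]), (1137, [[0x3f0e]]), (1518, [[0x85a8e]]), (1913, [[0x194b648]]), (1987, [[0xe3610]]), (3611, [[0x8b72e]])]⟩, ⟨[.img 0 3, .cnt 3 1, .cell [1, 3]], [[0x3d2e]], [(367, [[0xcbdec]]), (579, [[0x2e70]]), (597, [[0xf2dce]]), (727, [[0xebd2e]]), (802, [[0xbb648]]), (869, [[0x13670]]), (1360, [[0xab648]]), (1519, [[0x9bdd0]]), (1986, [[0x6e5ce]])]⟩, ⟨[.cnt 0 1, .img 0 2, .cell [5, 3, 1]], [[0x3d2e]], [(1700, [[0x1db3648]]), (1916, [[0xf370e]]), (2171, [[0xf96d8e]]), (3131, [[0x2c22e]]), (4674, [[0x149358e]]), (6539, [[0x127c62c]]), (6817, [[0x6c360e]]), (7334, [[0x8bf4c]])]⟩,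 ⟨[.cnt 0 1, .img 0 4, .cell [9, 5, 1]], [[0x3d2e]], [(3133, [[0x4c22e]]), (8751, [[0x1a5cd8e]])]⟩]⟩])
  (ops := [.cnt 0 1, .img 0 12, .cell [31, 36, 19, 15, 13, 9, 1], .cnt 0 1, .img 0 2, .cell [33, 44, 38, 25, 21, 28, 19, 15], .cnt 0 1, .img 0 2, .cell [37, 33, 52, 46, 31, 28, 17, 18], .cnt 0 1, .img 0 2, .cell [49, 47, 60, 54, 33, 44, 40, 34, 42, 36, 26], .cnt 0 1, .img 0 3, .cell [71, 59, 64, 49, 39, 37, 35], .cnt 0 1, .img 0 2, .cell [73, 67, 78, 63, 55, 47, 43], .cnt 0 1])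
  (adv := [[0x3d2e], [0x36e], [0x2e], [0x39ce], [0x3568], [0x226e], [0x502e]])
  (l := [42, 41, 38, 35, 34, 32, 29, 28, 23, 21, 20, 19, 15, 13, 12, 11, 6, 3, 2, 0]) (by decide +kernel)

theorem c56 : Cen 56 56 := cen_of (c := 0x1a3) (d := 1) (by decide +kernel)
  (lv := [⟨[.fix [1, 1], .cnt 0 2, .cell [7, 4, 1]], [[0x1aac74c, 0xcd16c8]], 0, 180, [], 0, []⟩, ⟨[.cnt 0 1, .img 0 1, .img 2 1, .cell [9, 6, 0]], [[0x336e]], 0, 20236, [], 0, []⟩, ⟨[.cnt 0 1, .cell [19, 11, 1], .cnt 0 3, .cell [25, 19, 17, 9, 3]], [[0xb3dce], [0xb4568, 0xbca0e, 0x5eb0e, 0x14ab568, 0x76d2e, 0x1683a2c, 0xdc574c, 0xb82dce, 0xebf6c8, 0x17fa0e, 0x168bfae, 0x1a8bdce, 0xe7b26e, 0xc75590, 0x195cca48, 0x1da520e, 0x23365648, 0x1ab5ec8, 0x18895ce, 0xe9cdce, 0xf88a10]], 0, 3886, [], 0, []⟩])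
  (ops := [.cnt 0 1, .img 0 11, .cell [45, 28, 21, 22, 13, 18, 14, 10, 8, 4, 0], .cnt 0 1, .cell [49, 57, 25, 26, 21, 23, 14, 12], .cnt 0 1, .img 0 2, .cell [59, 42, 35, 33, 27, 23, 25], .cnt 0 1, .img 0 2, .cell [52, 35, 3, 32, 5, 13], .cnt 0 1, .img 0 2, .cell [75, 56, 60, 25, 31, 48, 40, 21], .cnt 0 1, .img 0 1, .cell [79, 66, 57, 88, 47, 27, 25], .cnt 0 1, .cell [83, 91, 69, 84, 57, 29, 21], .cnt 0 1, .img 0 3])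
  (adv := [[0x5ae90], [0x290], [0x2ae], [0x2c8], [0x10], [0x190], [0x270], [0x330]])
  (l := [50, 51, 46, 38, 39, 40, 35, 34, 32, 25, 24, 20, 18, 16, 15, 14, 12, 11, 10, 8, 7, 5, 3, 1, 0]) (by decide +kernel)

theorem c57 : Cen 57 84 := cen_of (c := 0x225) (d := 1) (by decide +kernel)
  (lv := [⟨[.fix [1, 1], .cell [3, 0]], [], 0, 9490, [], 0, []⟩, ⟨[.cnt 0 1, .img 0 1, .cell [9, 3], .cnt 0 1, .cell [13, 6, 0]], [[0x10539d0], [0x168]], 0, 0, [], 0, []⟩, ⟨[.cnt 0 1, .cell [13, 7, 1, 11], .cnt 0 4, .cell [17, 11, 21, 22, 3]], [[0], [0xbf4c, 0x77a2e, 0x4bdec, 0xba26e, 0xf3d2e, 0xe36c8, 0x8534e, 0x84e0e, 0x6f168, 0xabe2e, 0x111b6c8, 0x6b3f4c, 0xf3ab0, 0xfad74c, 0xded648, 0x1985568, 0xc70dce, 0x175c98e, 0x114b648, 0x10dd568, 0x1074e2e]], 0, 1238, [], 0, []⟩])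
  (ops := [.cnt 0 1, .img 0 11, .cell [48, 38, 44, 23, 21, 19, 17, 15, 56], .cnt 0 1, .cell [35, 33, 48, 42, 27, 52, 25, 20, 16, 8, 4], .cnt 0 1, .img 0 2, .cell [61, 57, 50, 33, 35, 31, 29, 26, 22], .cnt 0 1, .img 0 1, .cell [63, 57, 46, 40, 36, 34, 32, 20], .cnt 0 1, .img 0 2])
  (adv := [[0x8b670], [0xe], [0x330], [0x5248], [0x3ef0]])
  (l := [38, 33, 29, 30, 24, 23, 22, 21, 19, 13, 11, 8, 7, 5, 4, 2, 1, 0]) (by decide +kernel)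

theorem c58 : Cen 58 360 := cen_of (c := 0x34f) (d := 1) (by decide +kernel)
  (lv := [⟨[.fix [1, 2]], [], 0, 1043, [], 0, []⟩, ⟨[.cnt 0 1, .cell [5, 1], .cnt 0 1, .cell [9, 6, 4]], [[0xca0ec8], [0x1af7a6c8]], 0, 16385, [], 0, []⟩, ⟨[.cnt 0 1, .cell [5, 1], .cnt 0 1, .cell [15, 11, 21]], [[0x1c9ea90], [0x2d35b9ce]], 0, 27814, [], 0, []⟩, ⟨[.cnt 0 1, .img 0 2, .cell [31, 24, 28, 3, 15], .cnt 0 1, .img 0 2, .cell [39, 28, 36, 13, 23], .cnt 0 1, .img 0 1, .cell [45, 34, 42, 19, 28], .cnt 0 1, .img 0 1, .cell [41, 44, 35, 25, 23, 17]], [[0x25a7bdce], [0x1bdb420e], [0x1ea7cec8], [0x1f3dbdce]], 0, 7918, [], 0, []⟩])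
  (ops := [.cnt 0 1, .img 0 4, .cell [55, 49, 39, 36, 30, 58, 64, 9, 5], .cnt 0 1, .img 0 3, .cell [69, 47, 39, 74, 19, 13, 30], .cnt 0 1, .cell [73, 63, 50, 49, 23, 21, 15], .cnt 0 1, .img 0 3, .cell [73, 54, 33, 78, 58, 52, 50, 21, 7, 5, 16], .cnt 0 1, .img 0 1, .cell [89, 65, 35, 38, 36, 13, 11, 6, 24], .cnt 0 1, .img 0 1])
  (adv := [[0x1a4a48], [0x62ae], [0xd0a0e], [0x86f4c], [0x32e], [0x2c8]])
  (l := [47, 45, 42, 40, 37, 36, 33, 32, 29, 28, 26, 25, 22, 20, 16, 15, 14, 13, 11, 9, 8, 4, 3, 0]) (by decide +kernel)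

theorem c59 : Cen 59 90 := cen_of (c := 0x161) (d := 1) (by decide +kernel)
  (lv := [⟨[.fix [3, 2], .cnt 0 4, .cell [7, 8, 3, 10]], [[0xbeac8, 0xe9e0e, 0x196f2c8, 0xccb1ce, 0xfb2fae, 0x2cb1ce, 0x5085648, 0x1ab3730, 0x361cc6c8, 0x3538b82e, 0x1a4bdce, 0x190cdac8, 0x27086e48, 0x1778cec8, 0x1ce1c6c8, 0x1a0bdce, 0x35aad568, 0x19085648, 0x3b1aee48, 0x372adec8, 0x356da5ce]], 0, 1681, [], 0, []⟩, ⟨[.cnt 0 1, .img 0 7, .cell [19, 14, 13, 11, 9]], [[0x69d0]], 0, 983, [], 0, []⟩])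
  (ops := [.cnt 0 1, .img 0 11, .cell [43, 41, 39, 33, 34, 20, 16, 11, 7], .cnt 0 1, .img 0 3, .cell [53, 47, 48, 43, 45, 39, 29], .cnt 0 1, .img 0 2, .cell [61, 58, 53, 49, 47, 39, 37], .cnt 0 1, .img 0 3])
  (adv := [[0xdb72e], [0xe], [0x2ee], [0x36e]])
  (l := [38, 39, 40, 35, 34, 33, 32, 31, 30, 29, 25, 24, 22, 21, 20, 14, 12, 11, 10, 9, 7, 5, 3, 1, 0]) (by decide +kernel)

theorem c60 : Cen 60 32 := cen_of (c := 0x59c1) (d := 1) (by decide +kernel)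
  (lv := [⟨[.fix [1, 1, 2], .cnt 0 1, .cell [7, 4]], [[0x10ac62c]], 0, 154, [], 0, []⟩, ⟨[.cnt 0 1, .img 0 3, .cell [12, 5, 3, 1, 14]], [[0x44e2c]], 0, 156, [0x745e, 0xb3836706ce0d9c1], 3, [⟨[.cnt 0 1, .img 0 1, .cell [3, 1, 21]], [[0x402e]], [(205, [[0x2528e]]), (743, [[0x6626e]]), (1597, [[0xcb9ee]]), (3532, [[0x111b6c8]]), (5438, [[0xcedce]]), (6775, [[0xc669ce]]), (6895, [[0x1a6da0e]])]⟩, ⟨[.cnt 0 1, .img 0 4, .cell [9, 7, 1]], [[0x402e]], [(8348, [[0x80dce]])]⟩, ⟨[.cnt 0 1, .img 0 3, .cell [7, 3, 1]], [[0x402e]], [(204, [[0x3b30]]), (704, [[0xd322e]]), (2567, [[0x95dce]]), (3837, [[0xb8f2c8]]), (4330, [[0xed66e]]), (6893, [[0x159c92e]]), (10545, [[0x20dcf168]])]⟩]⟩])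
  (ops := [.cnt 0 1, .img 0 10, .cell [39, 27, 15, 16, 18, 3], .cnt 0 1, .cell [43, 33, 21, 22, 24, 9], .cell [45, 37, 34, 25, 26, 21, 22], .cnt 0 1, .img 0 3, .cell [55, 43, 46, 35, 31, 32], .cnt 0 1])
  (adv := [[0x402e], [0], [0x290], [0x22e]])
  (l := [29, 26, 25, 23, 19, 18, 17, 16, 14, 10, 9, 8, 7, 5, 4, 3, 2, 0]) (by decide +kernel)

theorem c62 : Cen 62 54 := cen_of (c := 0x167) (d := 1) (by decide +kernel)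
  (lv := [⟨[.fix [1, 1, 4], .cell [3, 0]], [], 0, 0, [], 0, []⟩, ⟨[.cnt 0 1, .img 0 1, .cell [13, 10], .cnt 0 4, .cell [13, 11, 3]], [[0], [0x192c6c8, 0x9869ce, 0x154e9ce, 0x10b5bae, 0xfac02e, 0xda726e, 0xf9dac8, 0x15d5330, 0x118ae90, 0x10755ce, 0x1cb75ce, 0x1dac6c8, 0xdd6dce, 0xb94990, 0x1e7bd8e, 0x1bae190, 0x115518e, 0x1e7cc2e, 0x94a46c8, 0x157e9ce, 0x12939ce, 0xfd5a10, 0xeb726e, 0xeb3610]], 0, 885, [0x59d67], 8, [⟨[.img 0 1, .cnt 1 1, .cell [1, 3]], [[0xd426e]], [(743, [[0x6626e]]), (884, [[0x66aae]]), (1561, [[0x137b568]]), (1719, [[0x9ae0e]]), (2145, [[0x84b30]]), (2342, [[0xda3648]])]⟩, ⟨[.img 0 2, .cnt 2 1, .cell [1, 3]], [[0xd426e]], [(429, [[0xaa22e]]), (695, [[0x137c568]]), (1441, [[0x9bd2e]])]⟩]⟩])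
  (ops := [.cnt 0 1, .img 0 8, .cell [29, 35, 17, 13, 11, 9, 7], .cnt 0 1, .img 0 1, .cell [35, 39, 19, 20, 15, 16, 13, 11], .cnt 0 1, .img 0 2, .cell [38, 49, 47, 27, 30, 28, 25, 23, 21], .cnt 0 1, .img 0 1, .cell [49, 54, 52, 33, 34, 30, 1], .cnt 0 1, .img 0 2])
  (adv := [[0xd426e], [0xaae6e], [0xa5e0e], [0xf426e], [0xe]])
  (l := [33, 32, 31, 30, 25, 26, 28, 22, 21, 20, 17, 16, 14, 11, 9, 7, 5, 4, 2, 1, 0]) (by decide +kernel)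

theorem c63 : Cen 63 216 := cen_of (c := 0x2e8) (d := 1) (by decide +kernel)
  (lv := [⟨[.fix [1, 1, 1], .cnt 0 2, .cell [9, 4]], [[0x1185568, 0x7ce6e]], 0, 2898, [], 0, []⟩, ⟨[.cnt 0 1, .img 0 2, .cell [17, 5, 14], .cnt 0 2, .cell [23, 10], .cnt 0 3, .cell [19, 27, 16, 14, 11], .cnt 0 1, .cell [19, 9, 28, 14, 30]], [[0x426e], [0, 0x8, 0xec26e, 0x1e632c8], [0x659d0, 0xa59ee, 0x6e20e, 0x2996c8, 0xb6e6e, 0xf94ec8, 0x53e6e, 0x63f4e, 0x7926e, 0x16dee48, 0x1cad58e, 0xa05ce], [0x6270, 0x285ce, 0x159b648, 0x6210, 0x10352c8, 0x23b6e, 0xe2e8e, 0xe54c2e, 0xd6b0e, 0x7766e, 0x1095ac8, 0xa37ae, 0xf6610, 0x7b5ec, 0x127c62c, 0x1a849ce, 0x8360e, 0x1ec5ac8]], 0, 1196, [], 0, []⟩])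
  (ops := [.cnt 0 1, .img 0 11, .cell [37, 47, 41, 50, 48, 23, 15, 20, 28], .cnt 0 1, .cell [63, 41, 55, 52, 50, 15, 24, 22], .cnt 0 1, .img 0 3, .cell [65, 61, 71, 33, 36, 31, 43], .cnt 0 1, .cell [53, 68, 11, 27, 30, 19, 1], .cnt 0 1])
  (adv := [[0x3710], [0x10], [0x22c], [0x18e], [0x2b0]])
  (l := [43, 40, 36, 33, 31, 32, 28, 29, 21, 18, 15, 9, 7, 6, 4, 2, 0]) (by decide +kernel)

theorem c64 : Cen 64 216 := cen_of (c := 0x6e81) (d := 1) (by decide +kernel)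
  (lv := [⟨[.fix [1, 1], .cnt 0 2], [[0, 0x197c98e, 0x96d648]], 2, 0, [], 0, []⟩, ⟨[.cnt 0 1, .cell [11, 0, 8], .cnt 0 2, .cell [7, 17, 14], .cnt 0 2, .cell [9, 18, 2]], [[0], [0x1e2420e, 0x12669ce], [0x1144e2c, 0xc8f168, 0xd3dee, 0x28462c]], 0, 1263, [], 0, []⟩, ⟨[.cnt 0 1, .img 0 8, .cell [38, 40, 17, 13, 11, 9]], [[0xdb5ee]], 0, 700, [], 0, []⟩])
  (ops := [.cnt 0 1, .img 0 11, .cell [53, 45, 39, 66, 36, 23, 18, 16, 8, 12, 10], .cnt 0 1, .img 0 3, .cell [61, 31, 25, 23, 44, 38, 11], .cnt 0 1, .img 0 1, .cell [59, 57, 78, 47, 88, 36, 32, 30], .cnt 0 1])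
  (adv := [[0x5190], [0x310], [0x1ce], [0xe10]])
  (l := [43, 44, 42, 39, 35, 36, 31, 30, 26, 21, 19, 18, 17, 16, 14, 8, 7, 6, 5, 2, 0]) (by decide +kernel)

theorem c65 : Cen 65 324 := cen_of (c := 0x17) (d := 1) (by decide +kernel)
  (lv := [⟨[.fix [1, 1], .cnt 0 3, .cell [9, 0]], [[0, 0x8, 0x1185568, 0x7ce6e]], 0, 1604, [], 0, []⟩, ⟨[.cnt 0 1, .img 0 1, .cell [15, 10]], [[0x659d0]], 0, 0, [], 0, []⟩, ⟨[.cnt 0 1, .cell [19, 9]], [[0]], 0, 3153, [], 0, []⟩])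
  (ops := [.cnt 0 1, .img 0 6, .cell [27, 19, 32, 13, 10, 8, 6, 5, 2], .cnt 0 1, .img 0 2, .cell [35, 27, 40, 21, 18, 16, 14, 13, 11], .cnt 0 1, .img 0 3, .cell [45, 37, 50, 30, 28, 26, 24, 22, 20], .cnt 0 1, .img 0 3, .cell [61, 53, 54, 46, 41, 37, 30, 5, 0], .cnt 0 1, .cell [65, 50, 43, 44, 58, 21, 34, 40, 38, 32, 18], .cnt 0 1, .img 0 1])
  (adv := [[0xb326e], [0x2e6e], [0x3dd0], [0xd3ef0], [0x2b0], [0x560e]])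
  (l := [35, 36, 32, 30, 29, 28, 25, 24, 22, 17, 15, 10, 8, 3, 1, 0]) (by decide +kernel)

theorem c66 : Cen 66 216 := cen_of (c := 0x355) (d := 1) (by decide +kernel)
  (lv := [⟨[.fix [1, 1], .cell [3, 0], .cnt 0 2, .cell [7, 2]], [[0x74a6e, 0x2beae, 0xd3eae, 0x44e6e]], 0, 0, [], 0, []⟩, ⟨[.cell [3, 0], .cnt 0 2, .cell [17, 13], .cnt 0 2, .cell [16, 18, 9, 2]], [[0xc, 0x199382e], [0xb99ac8, 0x1bb3f4c]], 0, 745, [], 0, []⟩, ⟨[.cnt 0 1, .img 0 12, .cell [49, 37, 23, 21, 24, 17, 18]], [[0xabec8]], 0, 4, [], 0, []⟩])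
  (ops := [.cnt 0 1, .img 0 6, .cell [59, 12], .cnt 0 1, .cell [47, 59, 40, 15, 13, 7, 8], .cnt 0 1, .cell [47, 45, 73, 21, 48, 42, 11], .cnt 0 1])
  (adv := [[0x2a8], [0xc], [0x10], [0x2ee]])
  (l := [38, 39, 36, 33, 34, 26, 25, 21, 17, 16, 15, 12, 10, 6, 4, 2, 0]) (by decide +kernel)

theorem c67 : Cen 67 648 := cen_of (c := 0x2ad) (d := 1) (by decide +kernel)
  (lv := [⟨[.fix [1, 1], .cell [3, 0], .cnt 0 2], [[0x52e0e, 0xc760e]], 2, 1285, [], 0, []⟩, ⟨[.cnt 0 1, .cell [11, 1], .cnt 0 2, .cell [13, 2]], [[0x52e0e], [0x36c8, 0x16a3648, 0x1e7398e, 0x3b366e48, 0x13cb66e, 0x57cdce]], 0, 7185, [], 0, []⟩, ⟨[.cnt 0 1, .img 0 6, .cell [21, 28, 11, 30, 9, 12, 7]], [[0x3ba2e]], 0, 4589, [], 0, []⟩])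
  (ops := [.cnt 0 1, .img 0 4, .cell [39, 27, 25, 22, 17, 9], .cnt 0 1, .img 0 2, .cell [53, 34, 32, 28, 27, 15, 10], .cnt 0 1, .img 0 1])
  (adv := [[0x107570e], [0x22c], [0x6a90]])
  (l := [28, 26, 23, 24, 20, 19, 18, 16, 15, 14, 11, 10, 9, 7, 5, 4, 3, 1, 0]) (by decide +kernel)

theorem c68 : Cen 68 54 := cen_of (c := 0x38b) (d := 1) (by decide +kernel)
  (lv := [⟨[.fix [3], .cnt 0 4, .cell [9, 7]], [[0x96e9ce, 0x1560e, 0xe44dce, 0x397dd648, 0x29084568, 0x32cac168, 0x3ccd46c8, 0x379445ce, 0xda498e, 0x3b1bd648, 0x38eb39ce, 0x318d60e]], 0, 24452, [], 0, []⟩, ⟨[.cnt 0 1, .img 0 1, .cell [8, 10, 3, 1]], [[0x3ccd46c8]], 0, 4952, [0x38be2f8b], 2, [⟨[.cnt 0 1, .img 0 1, .cell [3, 1, 17]], [[0xbbd590]], [(6309, [[0x765ce]]), (7170, [[0xd6552e]]), (11045, [[0xec62e]]), (22967, [[0x3b723dce]]), (23479, [[0xff3dce]]), (26796,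 [[0x276a118e]])]⟩]⟩, ⟨[.cnt 0 1, .img 0 8, .cell [25, 17, 15, 32, 22, 31, 12, 0]], [[0xbbd590]], 0, 10251, [], 0, [⟨[.cnt 0 1, .img 0 1, .cell [3, 1, 39]], [[0x1a5b9ce]], [(16383, [[0xe86eae]]), (18535, [[0x1f77cec8]])]⟩, ⟨[.cnt 0 1, .img 0 1, .cell [3, 1, 14]], [[0x1a5b9ce]], [(3737, [[0x175b68e]]), (26915, [[0x11d3dce]])]⟩, ⟨[.cnt 0 1, .img 0 1, .cell [3, 1, 18]], [[0x1a5b9ce]], [(17185, [[0x17891ce]]), (17397, [[0x358876c8]])]⟩]⟩])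
  (ops := [.cnt 0 1, .img 0 12, .cell [31, 60, 62, 64, 25, 38, 11, 8], .cnt 0 1, .cell [59, 51, 35, 64, 66, 23, 26], .cnt 0 1, .img 0 2, .cell [59, 49, 47, 64, 37, 33], .cnt 0 1, .img 0 3, .cell [57, 76, 45, 37, 29], .cnt 0 1, .cell [81, 71, 65, 60, 56, 43, 50, 48, 44, 27, 36], .cnt 0 1])
  (adv := [[0x1a5b9ce], [0x20e], [0x270], [0x290], [0x210], [0x574c]])
  (l := [45, 46, 41, 38, 37, 36, 35, 31, 27, 26, 25, 24, 22, 21, 15, 13, 11, 10, 9, 5, 4, 2, 0]) (by decide +kernel)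

theorem c69 : Cen 69 216 := cen_of (c := 0xe524f) (d := 1) (by decide +kernel)
  (lv := [⟨[.fix [3], .cnt 0 4, .cell [7, 8]], [[0xb5f4c, 0x7574c, 0x1b54ec8, 0x1d6dec8, 0x9936c8, 0x9c5ac8, 0xb6b568, 0x118330e, 0x1b6420e, 0xde99ce, 0x384646c8, 0x372785ce]], 0, 552, [], 0, []⟩, ⟨[.cnt 0 1, .img 0 5, .cell [21, 19, 11, 9]], [[0x6d2e]], 0, 1444, [], 0, []⟩])
  (ops := [.cnt 0 1, .img 0 5, .cell [25, 26, 32, 23, 11, 21, 18, 6, 3, 0], .cnt 0 1, .img 0 1, .cell [33, 31, 29, 25, 16, 14, 12, 11, 8, 6], .cnt 0 1, .cell [37, 35, 42, 33, 19, 20, 30, 28, 16, 14, 10], .cnt 0 1, .cell [41, 39, 25, 37, 33, 20, 17, 14], .cnt 0 1, .cell [55, 45, 51, 41, 29, 27, 34, 19], .cnt 0 1, .img 0 1, .cell [49, 50, 56, 47, 35, 43, 31, 27], .cnt 0 1, .img 0 2, .cell [57, 58, 64, 55, 43, 41, 52, 38, 32], .cnt 0 1, .cell [61, 70, 62, 39, 5, 8, 56,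 13, 26], .cell [73, 7, 11, 56, 60, 33, 3], .cnt 0 1, .img 0 1])
  (adv := [[0xa3ec8], [0], [0x10], [0x28e], [0x34c], [0x2e], [0x7670], [0x4f0e], [0xe]])
  (l := [38, 39, 40, 41, 33, 27, 26, 24, 22, 21, 20, 19, 15, 13, 8, 4, 3, 1, 0]) (by decide +kernel)

theorem c70 : Cen 70 40 := cen_of (c := 0x1a1) (d := 1) (by decide +kernel)
  (lv := [⟨[.fix [1, 1, 2], .cnt 0 1, .cell [7, 4, 0]], [[0x2f0]], 0, 281, [], 0, []⟩, ⟨[.cnt 0 1, .img 0 3, .cell [13, 7, 3, 4, 1, 18]], [[0x4190]], 0, 946, [], 0, []⟩])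
  (ops := [.cnt 0 1, .img 0 10, .cell [39, 29, 27, 30, 21, 14, 6, 5], .cnt 0 1, .img 0 3, .cell [49, 31, 38, 25, 19, 40, 11, 16, 12], .cnt 0 1, .img 0 1, .cell [55, 47, 45, 42, 33, 30, 25, 22], .cnt 0 1, .img 0 1, .cell [61, 55, 51, 49, 40, 36], .cnt 0 1, .img 0 3])
  (adv := [[0x9bac8], [0x10], [0x290], [0x310], [0x22c]])
  (l := [35, 32, 31, 30, 29, 26, 25, 24, 23, 22, 20, 19, 18, 14, 13, 12, 11, 8, 6, 5, 3, 2, 1, 0]) (by decide +kernel)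

theorem c71 : Cen 71 120 := cen_of (c := 0x19) (d := 1) (by decide +kernel)
  (lv := [⟨[.fix [1, 3]], [], 0, 0, [], 0, []⟩, ⟨[.cnt 0 1, .cell [7, 0, 4]], [[0]], 0, 5333, [], 0, []⟩, ⟨[.cnt 0 1, .img 0 3, .cell [13, 7, 5, 1, 2, 18]], [[0x156da6e]], 0, 873, [], 0, []⟩])
  (ops := [.cnt 0 1, .img 0 12, .cell [47, 44, 36], .cnt 0 1, .cell [39, 15, 21, 17, 28, 26, 34, 22, 10, 18], .cnt 0 1, .img 0 2, .cell [47, 43, 54, 48, 37, 32, 34, 30, 24, 22, 16, 18], .cnt 0 1, .img 0 1, .cell [55, 53, 37, 42, 40, 35, 33, 19], .cnt 0 1, .img 0 3, .cell [47, 64, 11, 17, 19], .cnt 0 1, .img 0 3, .cell [69, 17, 15, 38, 62, 58, 54, 12], .cnt 0 1, .img 0 3])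
  (adv := [[0x9bdee], [0x8], [0x176e], [0x5e2e], [0x118e], [0x28e], [0x36e]])
  (l := [46, 45, 42, 41, 39, 35, 34, 32, 27, 23, 22, 20, 16, 10, 8, 5, 0]) (by decide +kernel)

theorem c72 : Cen 72 42 := cen_of (c := 0x15) (d := 1) (by decide +kernel)
  (lv := [⟨[.fix [1, 2], .cnt 0 1, .cell [5, 0, 2]], [[0]], 0, 17658, [], 0, []⟩, ⟨[.cnt 0 1, .img 0 2, .cell [11, 5, 3, 1], .cnt 0 3, .cell [19, 11, 9, 12, 3]], [[0x18f3dce], [0xdbf4c, 0x9baae, 0x8bdee, 0x11a322e, 0xf63ac8, 0x87aae, 0x8b72e, 0x85b30, 0x7c6c8, 0x73290, 0x157c6c8, 0x27462c, 0xebc5ee, 0xe9e58e, 0x189ba2e, 0x168bdee, 0x3358b648, 0x6d3ec8, 0x10b9dce, 0xe9160e, 0x1ccaca48]], 0, 3168, [], 0, []⟩])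
  (ops := [.cnt 0 1, .img 0 12, .cell [41, 32, 25, 23, 17, 20, 18, 14, 12], .cnt 0 1, .img 0 1, .cell [45, 38, 27, 24, 18, 20, 17, 6, 11], .cnt 0 1, .cell [51, 42, 35, 31, 32, 23, 26, 12], .cnt 0 1, .img 0 3, .cell [59, 52, 45, 43, 37, 27, 21], .cnt 0 1])
  (adv := [[0x44e6e], [0xe], [0x1d0], [0x330], [0x5290]])
  (l := [37, 36, 32, 27, 28, 29, 24, 23, 22, 21, 20, 19, 17, 15, 14, 10, 9, 7, 5, 4, 3, 2, 0]) (by decide +kernel)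

theorem c73 : Cen 73 44 := cen_of (c := 0x2a1) (d := 1) (by decide +kernel)
  (lv := [⟨[.fix [1], .cnt 0 2], [[0, 0x1a7d648]], 1, 159, [0x2a1], 10, [⟨[.img 0 1, .cnt 1 1, .cell [1, 3]], [[0xdbdee]], [(196, [[0x3d2e]]), (217, [[0x6aac8]]), (568, [[0x3dec]]), (633, [[0x8bf6e]]), (693, [[0xd3d2e]]), (695, [[0x137c568]]), (1404, [[0x1a6d648]]), (1744, [[0x5f9ce]]), (1774, [[0x89ee48]]), (2291, [[0x5c9ce]]), (3175, [[0x147574c]]), (3557, [[0x87aae]]), (5101, [[0xccd18e]]), (5755, [[0xa3a6e]]), (9038, [[0xcb798e]])]⟩, ⟨[.img 0 3, .cnt 3 1, .cell [1, 3]], [[0xdbdee]], [(208, [[0x9326e]]), (493, [[0x7cf4c]]), (525, [[0x7b568]]), (533, [[0xd2dce]]), (545, [[0x445ee]]), (578, [[0x53648]]), (610, [[0x135ee]]), (624, [[0x5226e]]), (647, [[0x68ec8]]), (673, [[0xe3f6e]]), (706, [[0xa22ae]]), (728, [[0x36f0]]), (1125, [[0x8622e]]),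 (1518, [[0x85a8e]]), (1579, [[0x2e6e]]), (1582, [[0xeb26e]]), (1608, [[0x52e10]]), (1722, [[0xcbeb0]]), (1747, [[0xcb2ae]]), (1748, [[0x93f6e]]), (2213, [[0xbae6e]]), (2358, [[0x5bbec8]]), (2423, [[0xd3e2e]]), (2513, [[0x8bdee]]), (2584, [[0x19a35ec]]), (2989, [[0xb9c568]]), (3851, [[0x1285568]]), (3898, [[0x5f20e]]), (4575, [[0x4b60e]]), (4667, [[0xba374c]]), (4857, [[0x49360e]]), (5765, [[0x1c6f168]]), (5884, [[0x5cec8]]), (8135, [[0x13c360e]])]⟩, ⟨[.cnt 0 1, .img 0 4, .cell [9, 5, 1]], [[0xdbdee]], [(1568, [[0xb72ac8]]), (1841, [[0x176f168]]), (1915, [[0x1a5d98e]]), (3199, [[0xcb3568]]), (8297, [[0x1b68e0e]]), (10068, [[0xb360e]])]⟩, ⟨[.cnt 0 1, .img 0 7, .cell [15, 11, 9, 7, 1]], [[0xdbdee]], [(566, [[0x23e8e]]), (579, [[0x2e70]]), (888, [[0x6dbae]]), (990, [[0x69248]]), (1201, [[0x9bec8]]), (1340, [[0x44e10]]),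 (1373, [[0xbc26e]])]⟩]⟩, ⟨[.cnt 0 1, .img 0 10, .cell [24, 21, 15, 11, 26, 5]], [[0xdbdee]], 0, 22014, [], 0, []⟩])
  (ops := [.cnt 0 1, .img 0 12, .cell [49, 35, 54, 33, 25, 17], .cnt 0 1, .img 0 1, .cell [55, 45, 60, 39, 27, 29, 24], .cnt 0 1, .img 0 2, .cell [59, 57, 53, 69, 62, 64, 60, 33, 30], .cnt 0 1])
  (adv := [[0xfb368e], [0x30e], [0x2e], [0x3e8e]])
  (l := [38, 36, 34, 33, 32, 31, 30, 27, 24, 21, 20, 19, 17, 15, 14, 13, 11, 10, 9, 7, 6, 3, 2, 0]) (by decide +kernel)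

theorem c74 : Cen 74 44 := cen_of (c := 0x11) (d := 1) (by decide +kernel)
  (lv := [⟨[.fix [1, 10], .cnt 0 1, .cell [1, 4]], [[0, 0x106560e]], 0, 76, [0x11], 22, [⟨[.img 0 3, .cnt 3 1, .cell [1, 3]], [[0xbbdec]], [(134, [[0xbb5ec]]), (174, [[0x22b0]]), (183, [[0x5d28e]]), (249, [[0xcb648]]), (264, [[0x32b0]]), (271, [[0x4b648]]), (350, [[0x84e2c]]), (429, [[0xaa22e]]), (448, [[0x5358e]]), (745, [[0xabec8]]), (778, [[0xb222e]]), (809, [[0x7622e]]), (826, [[0x3dee]]), (853, [[0x4ae10]]), (889, [[0x226e]]), (890, [[0x5b6b0]]), (900, [[0x6066e]]), (983, [[0xdb72e]]), (1092, [[0x142ae]]), (1094, [[0x1c7474c]]), (1140, [[0x8626e]]), (1159, [[0x5db0e]]), (1197, [[0x17eb648]]), (1223, [[0x9b72e]]), (1226, [[0x655ce]]), (1359, [[0x6f168]]), (1569, [[0x7ce70]]), (1666, [[0x147dd68]]), (2515, [[0x13236c8]]), (5910, [[0x1c8b648]])]⟩,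 ⟨[.cnt 0 1, .img 0 2, .cell [5, 3, 1]], [[0xbbdec]], [(52, [[0x852c8]]), (72, [[0x22ae]]), (91, [[0x5e648]]), (101, [[0x45568]]), (110, [[0x6e248]]), (129, [[0x32ae]]), (141, [[0x8b22e]]), (154, [[0x44e2c]]), (159, [[0xdbdee]]), (190, [[0x4b5ec]]), (202, [[0x4318e]]), (208, [[0x9326e]]), (217, [[0x6aac8]]), (231, [[0x6f248]]), (256, [[0x9b648]]), (270, [[0x370e]]), (279, [[0x35ec]]), (287, [[0x7ee48]]), (293, [[0xab26e]]), (297, [[0x71f30]]), (305, [[0xd372e]]), (306, [[0x358e]]), (328, [[0x36c8]]), (336, [[0xd35ec]]), (338, [[0x6cf4c]]), (361, [[0x77a2e]]), (367, [[0xcbdec]]), (386, [[0x332b0]]), (399, [[0x3648]]), (410, [[0x235ec]]), (422, [[0x3f4c]]), (430, [[0x5c34c]]), (435, [[0x6f60e]]), (436, [[0xeb58e]]), (449, [[0x2358e]]), (467, [[0xc2dce]]), (482, [[0x5e62c]]), (504, [[0x65568]]), (526, [[0xb22ae]]), (562,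 [[0x5cb6e]]), (578, [[0x53648]]), (623, [[0x44f4c]]), (624, [[0x5226e]]), (633, [[0x8bf6e]]), (646, [[0x1084a48]]), (691, [[0x3670]]), (692, [[0x6deee]]), (704, [[0xd322e]]), (706, [[0xa22ae]]), (707, [[0xcb422c]]), (721, [[0x67a2e]]), (726, [[0xf3648]]), (759, [[0x5d98e]]), (777, [[0x42ae]]), (802, [[0xbb648]]), (811, [[0x53dec]]), (901, [[0x7bb0e]]), (904, [[0xbab568]]), (979, [[0x2b670]]), (981, [[0xcb26e]]), (1122, [[0x65290]]), (1124, [[0x75a90]]), (1129, [[0x59a90]]), (1138, [[0x7baa8]]), (1157, [[0xbbf4c]]), (1198, [[0x75568]]), (1201, [[0x9bec8]]), (1240, [[0x3a26e]]), (1244, [[0xbbf168]]), (1288, [[0xbf4ec8]]), (1612, [[0x1ae10]]), (1702, [[0xdcca48]]), (1715, [[0xba6e]]), (1742, [[0xdbd2e]]), (1778, [[0xa9b6c8]]), (1779, [[0x196f2c8]]), (1881, [[0x17cbdec]]), (1913, [[0x194b648]]), (1915, [[0x1a5d98e]]),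 (1917, [[0xb84168]]), (2154, [[0x1d93dec]]), (2173, [[0x8518e]]), (2290, [[0x6518e]]), (2528, [[0x74330]]), (2532, [[0x6de70]]), (2577, [[0x79ac8]]), (2943, [[0xfc5648]]), (2988, [[0x65b30]]), (3095, [[0x1769ac8]]), (4570, [[0x69a0e]]), (4844, [[0x7c98e]]), (5465, [[0xcb610]])]⟩, ⟨[.cnt 0 1, .img 0 5, .cell [11, 9, 1]], [[0xbbdec]], [(148, [[0x455ec]]), (196, [[0x3d2e]])]⟩, ⟨[.cnt 0 1, .img 0 4, .cell [9, 5, 1]], [[0xbbdec]], [(376, [[0x135ec]]), (596, [[0x235ee]]), (3233, [[0xbb72e]])]⟩]⟩, ⟨[.cnt 0 1, .img 0 7, .cell [25, 21, 15, 7, 9, 22]], [[0xbbdec]], 0, 19129, [], 0, []⟩])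
  (ops := [.cnt 0 1, .img 0 10, .cell [41, 39, 46, 27, 1, 14], .cnt 0 1, .img 0 1, .cell [47, 39, 52, 35, 33, 22], .cnt 0 1, .img 0 1, .cell [53, 45, 58, 46, 50, 48, 23, 30, 28, 62], .cnt 0 1])
  (adv := [[0x116bfae], [0x2e], [0x34c], [0x28e]])
  (l := [32, 33, 31, 30, 28, 27, 26, 25, 24, 23, 22, 18, 17, 16, 14, 13, 12, 11, 8, 5, 3, 2, 0]) (by decide +kernel)

end Cfsg.Agent.TAB.F23C
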