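import Cfsg.Agent.TAB.F23C.Tool

/-! `Fi₂₃` : centralizers (helper21, TAB) -/

set_option autoImplicit false
set_option maxRecDepth 100000
set_option Elab.async false

namespace Cfsg.Agent.TAB.F23C

open Cfsg.Agent.TAB.PE Cfsg.Agent.Fischer.Fi23Hom

theorem c1 : Cen 1 318504960 := cen_of (c := 0xd47) (d := 1) (by decide +kernel)
  (lv := [⟨[.fix [1]], [], 0, 0, [], 0, [⟨[.cnt 0 1, .cell [1, 5]], [[0]], [(8003, [[0x1271e0e]]), (8005, [[0x10bba6e]]), (8007, [[0x126ea2e]])]⟩]⟩, ⟨[.cnt 0 1, .cell [5, 0, 2]], [[0]], 0, 8, [], 0, []⟩, ⟨[.cnt 0 1, .cell [11, 7, 1], .cnt 0 3, .cell [19, 15, 8], .cnt 0 3, .cell [23, 10, 12]], [[0xe], [0x135ec, 0xd3d2e, 0x13670, 0x2732c8, 0xeb7ae, 0xe3ef0, 0xdcaac8, 0xf2e6e, 0xdb6ee, 0x1469248, 0xa3f6e, 0x166f60e, 0x1271e0e, 0x10bba6e, 0x126ea2e], [0x6e248, 0x7d28e, 0x135ee,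 0xe3f6e, 0xeb5ee, 0x2322e, 0x23670, 0x7574c, 0x7caee, 0x45aee, 0x7aeae, 0x6e5ec, 0x3f6e, 0x9426e, 0xdadce, 0x1c84c2e, 0x1074d8e, 0x8126e, 0x179b5ec, 0xe3648, 0xd3d648, 0xdb74e, 0x116f6c8, 0xa37ae, 0x167ca48, 0x10ac568, 0xb84c2e, 0xb3f0e, 0x1633dec, 0xfcd248, 0xf3a6e, 0x1b585ce, 0x13841ce, 0x1384c2e, 0x14e3648, 0x1ef360e, 0x1a5f5ce, 0xab60e, 0x1ddb60e]], 0, 922, [], 0, []⟩, ⟨[.cnt 0 1, .img 0 1, .cell [21, 24, 34, 3, 1]], [[0x2e0e]], 0, 1360, [], 0, []⟩, ⟨[.cnt 0 1, .img 0 1, .cell [37, 11, 29, 32]], [[0xab648]], 0, 1734, [], 0, []⟩])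
  (ops := [.cnt 0 1, .cell [35, 17, 39, 44, 32, 9, 1], .cell [37, 17, 41, 46, 34, 11, 3], .cnt 0 1, .cell [49, 23, 45, 6], .cnt 0 1, .cell [55, 49, 27, 44, 11, 18, 16], .cnt 0 1, .img 0 1, .cell [51, 33, 55, 49, 30, 61, 17, 24], .cnt 0 1, .img 0 1, .cell [67, 61, 39, 56, 31, 23], .cnt 0 1, .img 0 1, .cell [77, 45, 73, 66, 37], .cnt 0 1, .cell [77, 71, 47, 66, 41, 33], .cnt 0 1, .img 0 1])
  (adv := [[0x8eaae], [0x4e6e], [0x2f4e], [0xd3eae], [0xd36f0], [0x6c6ae], [0xab60e], [0x44a70]])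
  (l := [43, 42, 38, 36, 33, 31, 32, 27, 23, 22, 19, 18, 16, 14, 12, 11, 9, 8, 5, 3, 1, 0]) (by decide +kernel)

theorem c2 : Cen 2 73574645760 := cen_of (c := 0x28) (d := 1) (by decide +kernel)
  (lv := [⟨[.fix [1]], [], 0, 2, [], 0, [⟨[.cnt 0 1, .cell [1, 5]], [[0xc]], [(8006, [[0x7ce6e]]), (11589, [[0x1384c2e]])]⟩]⟩, ⟨[.cnt 0 1, .cell [5, 0, 2]], [[0xc]], 0, 6, [], 0, []⟩, ⟨[.cnt 0 1, .cell [5, 1]], [[0x10]], 0, 7, [], 0, []⟩, ⟨[.cnt 0 1, .cell [17, 13, 6, 1]], [[0x1ec]], 0, 112, [], 0, []⟩, ⟨[.cnt 0 1, .cell [23, 19, 13, 7, 1], .cell [25, 21, 15, 9, 2], .cnt 0 3, .cell [33, 29, 23, 16, 11], .cnt 0 4, .cell [21, 32, 42, 5, 13]], [[0x330], [0x3aee, 0x71ce, 0x3b4c, 0x4c34c, 0x4b2e, 0x6290, 0x726c8, 0x7066e, 0x126c74c, 0x166f60e], [0xa474c, 0x260e, 0xedac8, 0x5260e, 0xe15ce, 0x2c98e, 0x79ce, 0xe5b6c8,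 0x8426e, 0x126ea2e]], 0, 1278, [], 0, []⟩, ⟨[.cnt 0 1, .img 0 1, .cell [35, 11, 20, 28, 18, 22, 3, 50]], [[0x9ca70]], 0, 1313, [], 0, []⟩])
  (ops := [.cnt 0 1, .img 0 1, .cell [55, 43, 11, 26, 36, 30, 58, 19, 2], .cnt 0 1, .img 0 1, .cell [59, 37, 54, 16, 9], .cnt 0 1, .cell [63, 41, 21, 13], .cnt 0 1, .cell [37, 61, 25], .cnt 0 1, .cell [49, 47, 72, 61, 27, 19], .cnt 0 1, .cell [53, 71, 40, 48, 42, 50, 64, 23], .cnt 0 1, .img 0 1, .cell [59, 55, 76, 38, 31, 19, 14], .cnt 0 1, .img 0 1, .cell [81, 45, 71, 76, 60, 21], .cnt 0 1, .cell [55, 66, 48, 92, 80, 35, 29, 11, 12, 20], .cnt 0 1, .img 0 1, .cell [75, 55, 71, 98, 47, 23], .cnt 0 1, .img 0 1])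
  (adv := [[0xabaee], [0x26e], [0x248], [0x168], [0x28e], [0x666e], [0x370e], [0xe], [0x310], [0x3ae], [0x190]])
  (l := [52, 49, 46, 42, 38, 39, 33, 34, 36, 30, 29, 26, 23, 22, 20, 16, 14, 12, 11, 9, 8, 6, 3, 0]) (by decide +kernel)

theorem c3 : Cen 3 129123503308800 := cen_of (c := 0x9) (d := 1) (by decide +kernel)
  (lv := [⟨[.fix [1], .cell [0]], [], 0, 6, [], 0, []⟩, ⟨[.cnt 0 1, .img 0 1, .img 2 1, .cell [10, 4, 2, 6, 0]], [[0x10]], 0, 100, [], 0, []⟩, ⟨[.cnt 0 1, .img 0 1, .cell [13, 3, 18]], [[0x290]], 0, 15, [], 0, []⟩, ⟨[.cnt 0 1, .img 0 1, .cell [21, 27, 11, 2]], [[0x2f0]], 0, 55, [], 0, []⟩, ⟨[.cnt 0 1, .cell [27, 33, 17, 9, 0], .cnt 0 2, .cell [19, 13, 7], .cnt 0 2, .cell [37, 27, 19, 44, 9]], [[0x52ae], [0x1ee, 0x34c, 0x1c13a6e], [0x2eae, 0xe26c8, 0xee90]], 0, 12557, [], 0, []⟩, ⟨[.cnt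 0 1, .img 0 1, .cell [29, 53, 21, 46, 36, 3]], [[0xed60e]], 0, 616, [], 0, []⟩])
  (ops := [.cnt 0 1, .cell [23, 53, 33, 42, 8, 7, 1], .cnt 0 1, .img 0 1, .cell [37, 32, 34, 7], .cnt 0 1, .cell [63, 43, 37, 19, 68, 11], .cnt 0 1, .img 0 1, .cell [69, 49, 36, 42, 17, 31], .cnt 0 1, .img 0 1, .cell [57, 81, 48, 23, 39], .cnt 0 1, .cell [49, 73, 67, 33, 27], .cnt 0 1, .img 0 1, .cell [75, 91, 67, 41, 59, 32], .cnt 0 1, .cell [87, 78, 44, 5, 36, 31, 15], .cnt 0 1, .cell [65, 27], .cnt 0 1, .cell [79, 65, 102, 52, 50, 31, 44, 41, 59], .cnt 0 1, .cell [83, 75, 106, 90, 54, 39, 48, 33], .cnt 0 1, .img 0 1, .cell [113, 55, 51, 25, 76, 69], .cnt 0 1])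
  (adv := [[0x66ae], [0x35ec], [0x6e48], [0x722e], [0x3a70], [0x13a6e], [0xbe70], [0xbd70e], [0xe], [0x1ee], [0x28e], [0x3ae], [0x18e]])
  (l := [58, 55, 52, 50, 49, 46, 45, 42, 39, 40, 36, 33, 32, 27, 24, 22, 19, 16, 14, 11, 9, 7, 5, 2, 0]) (by decide +kernel)

theorem c4 : Cen 4 944784 := cen_of (c := 0x26b) (d := 1) (by decide +kernel)
  (lv := [⟨[.fix [1]], [], 0, 4, [], 0, []⟩, ⟨[.cnt 0 1, .cell [5, 2], .cnt 0 4, .cell [10, 7]], [[0x2a8], [0x12e, 0x570e, 0xb2dec, 0x166b6c8, 0xd4c2e, 0x15ae18e, 0x7ba6e, 0xd3ef0, 0x4b7a0e, 0x230c5648, 0x19b5ac8, 0x1547b648, 0x3b7a6c8, 0x11cc6c8, 0x4f5610, 0x23965648, 0x231742c8, 0x3b374568, 0x1c6cb0e, 0xfb4a0e, 0x96f210, 0x18cb68e, 0x32e716c8, 0x1b175648, 0x1597bd8e, 0x38ed46c8]], 0, 6, [0x1e093b1e71bccf589af34, 0x34f089eef39c60b325a688c690, 0x26b], 3, [⟨[.img 0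 1, .cnt 1 1, .cell [1, 3]], [[0x10]], [(189, [[0x52b0]]), (221, [[0xdb568]]), (275, [[0x2fae]]), (413, [[0x15ce]]), (463, [[0xa7a6e]]), (10000, [[0x1ad69ce]])]⟩]⟩, ⟨[.cnt 0 1, .img 0 2, .cell [17, 21, 3, 4, 1]], [[0x10]], 0, 83, [], 0, []⟩, ⟨[.cnt 0 1, .img 0 2, .cell [27, 15, 31, 12, 10, 5, 3, 0]], [[0x2ee]], 0, 4026, [], 0, []⟩])
  (ops := [.cnt 0 1, .img 0 2, .cell [41, 25, 15, 36, 11, 22, 3], .cnt 0 1, .img 0 2, .cell [37, 23, 21, 29, 32, 30, 18, 12, 10], .cnt 0 1, .img 0 1, .cell [51, 39, 55, 25, 26, 36, 34, 19, 15], .cnt 0 1, .img 0 2, .cell [43, 63, 36, 34, 32, 27, 25, 23], .cnt 0 1, .img 0 2, .cell [59, 45, 55, 53, 50, 40, 35, 30, 32], .cnt 0 1, .img 0 2, .cell [63, 79, 61, 59, 50, 41], .cnt 0 1, .img 0 2])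
  (adv := [[0x4b0e], [0x28e], [0x32e], [0x370e], [0x6fae], [0x59ec], [0x5e70]])
  (l := [43, 38, 39, 35, 34, 33, 30, 29, 25, 24, 19, 17, 16, 14, 13, 12, 8, 4, 2, 1, 0]) (by decide +kernel)

theorem c5 : Cen 5 37791360 := cen_of (c := 0x7a62) (d := 1) (by decide +kernel)
  (lv := [⟨[.fix [1]], [], 0, 0, [], 0, []⟩, ⟨[.cnt 0 1, .cell [5, 1]], [[0]], 0, 296, [], 0, []⟩, ⟨[.cnt 0 1, .cell [11, 6, 0]], [[0x7dec8]], 0, 81, [], 0, []⟩, ⟨[.cnt 0 1, .cell [11, 7, 1], .cnt 0 2, .cell [13, 7, 0, 22]], [[0x3aee], [0x84c2e, 0x13696c8, 0xd7cd8e]], 0, 6, [], 0, []⟩, ⟨[.cnt 0 1, .img 0 2, .cell [27, 11, 22, 24]], [[0x10]], 0, 437, [], 0, []⟩])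
  (ops := [.cnt 0 1, .cell [27, 17, 11, 24], .cnt 0 1, .cell [23, 39, 15, 32, 5], .cnt 0 1, .img 0 2, .cell [47, 35, 23, 21, 13], .cnt 0 1, .img 0 2, .cell [53, 43, 31], .cnt 0 1, .cell [59, 41, 52, 33, 31, 46, 62, 24], .cnt 0 1, .img 0 1, .cell [49, 65, 41, 58, 68, 30], .cnt 0 1, .img 0 1])
  (adv := [[0x7adec], [0x534e], [0x35ec], [0x22ae], [0x6c6b0], [0x8066e], [0x9374e]])
  (l := [36, 35, 29, 26, 23, 22, 21, 18, 16, 13, 12, 10, 9, 8, 6, 4, 3, 0]) (by decide +kernel)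

theorem c6 : Cen 6 1632586752 := cen_of (c := 0x1b) (d := 4) (by decide +kernel)
  (lv := [⟨[.fix [1]], [], 0, 0, [], 0, []⟩, ⟨[.cnt 0 1, .cell [5, 1]], [[0]], 0, 437, [], 0, []⟩, ⟨[.cnt 0 1, .cell [11, 6, 0]], [[0x7adec]], 0, 1, [], 0, []⟩, ⟨[.cnt 0 1, .cell [11, 6, 8]], [[0x8]], 0, 1199, [], 0, []⟩, ⟨[.cnt 0 1, .cell [19, 13, 7, 1]], [[0x7caee]], 0, 2528, [], 0, []⟩, ⟨[.cnt 0 1, .img 0 2, .cell [29, 17, 23, 10, 5, 3]], [[0x74330]], 0, 995, [], 0, []⟩])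
  (ops := [.cnt 0 1, .img 0 2, .cell [39, 27, 21, 13, 14, 3, 1], .cnt 0 1, .img 0 1, .cell [45, 33, 27, 20, 18, 9, 10, 7], .cnt 0 1, .img 0 1, .cell [51, 39, 33, 25, 26, 17, 13], .cnt 0 1, .img 0 1, .cell [57, 45, 39, 33, 31, 21, 19], .cnt 0 1, .img 0 1, .cell [51, 45, 39, 37, 56, 62, 25, 28, 26], .cnt 0 1, .img 0 2, .cell [53, 47, 45, 70, 58, 64, 37, 34, 32], .cnt 0 1, .img 0 2, .cell [73, 78, 66, 19, 42, 40, 37, 12, 8], .cnt 0 1, .img 0 1, .cell [79, 60, 51, 72, 49, 35, 37, 29], .cnt 0 1, .cell [65, 70, 35, 54, 50, 62, 27, 11, 12], .cnt 0 1, .img 0 2, .cell [91, 84, 78, 63, 27, 60, 53], .cnt 0 1, .cell [95, 76, 74, 88, 59, 62, 47, 82, 45], .cnt 0 1, .img 0 2])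
  (adv := [[0x63a0e], [0xa3dec], [0xc3a6e], [0x64a70], [0x66a6e], [0x1aacaee], [0x1ad6dce], [0x2f0], [0x32e], [0x1ce], [0x270], [0x190]])
  (l := [55, 54, 51, 49, 45, 41, 40, 33, 30, 27, 26, 20, 19, 12, 10, 6, 4, 2, 0]) (by decide +kernel)

theorem c7 : Cen 7 13756055040 := cen_of (c := 0x41) (d := 1) (by decide +kernel)
  (lv := [⟨[.fix [1]], [], 0, 0, [], 0, []⟩, ⟨[.cnt 0 1, .cell [5, 0, 2]], [[0]], 0, 1, [], 0, []⟩, ⟨[.cnt 0 1, .cell [5, 1]], [[0x8]], 0, 240, [], 0, []⟩, ⟨[.cnt 0 1, .cell [5, 1]], [[0x4270]], 0, 506, [], 0, []⟩, ⟨[.cnt 0 1, .cell [19, 13, 7, 22, 0]], [[0x330e]], 0, 2140, [], 0, []⟩, ⟨[.cnt 0 1, .img 0 2, .cell [15, 11, 5]], [[0x3a6e]], 0, 5725, [], 0, []⟩])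
  (ops := [.cnt 0 1, .cell [39, 11, 17, 35, 23, 1], .cnt 0 1, .cell [31, 15, 21, 28, 5], .cnt 0 1, .cell [41, 19, 25, 31, 38, 9], .cnt 0 1, .cell [47, 35, 29, 23, 40, 50, 19, 12], .cnt 0 1, .img 0 1, .cell [53, 47, 35, 40, 56, 26, 24, 19], .cnt 0 1, .cell [31, 29, 56, 50, 38, 60, 7, 19], .cnt 0 1, .img 0 2, .cell [63, 53, 47, 40, 31, 9], .cnt 0 1])
  (adv := [[0x71610], [0x374e], [0x4eee], [0x3bae], [0xcbf6e], [0x7a22e], [0xe], [0x22c]])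
  (l := [35, 34, 32, 31, 28, 25, 22, 21, 20, 17, 15, 13, 11, 9, 8, 4, 2, 0]) (by decide +kernel)

theorem c8 : Cen 8 36864 := cen_of (c := 0x65e4) (d := 1) (by decide +kernel)
  (lv := [⟨[.fix [1, 1], .cnt 0 3, .cell [5, 6]], [[0x2e, 0x5adec, 0x33a6e, 0x519d9ec, 0x1319c62c, 0x38d60e, 0x20c74568]], 0, 49, [], 0, []⟩, ⟨[.cnt 0 1, .img 0 1, .cell [1, 12, 17], .cnt 0 6, .cell [24, 16, 14, 7]], [[0x2ae], [0x9e3568, 0x169ef4c, 0xa2610, 0x689ce, 0xc6d2e, 0x1de5648, 0x14c5568, 0xecbac8, 0xf65648, 0x169ce, 0xb9c20e, 0x147b648, 0x1518c568, 0x169c6c8, 0x3bae648, 0x19e658e, 0x1969d648, 0x1085f4c, 0x36bfae, 0xd43fae, 0xfa2fae, 0x1ab6aee, 0x158422c, 0x4f4dce, 0x3703d648, 0xcb68e, 0x29bab568, 0x14725ce, 0xf586e48, 0x12cd70e, 0x14a4a48, 0x294cf168]], 0, 48, [], 0, []⟩, ⟨[.cnt 0 1, .img 0 3, .cell [41, 7], .cnt 0 1,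 .cell [37, 33, 26, 10, 8], .cell [39, 28, 13], .cnt 0 3, .cell [40, 51, 21, 19, 17], .cnt 0 3, .cell [17, 5], .cnt 0 1, .cell [37, 33, 31, 29, 16], .cnt 0 2, .cell [61, 39, 33, 28, 7], .cnt 0 2, .cell [45, 55, 72, 40, 9, 18, 0, 2]], [[0x69ec], [0x20c74568], [0xc4c2e, 0xb84c2e, 0x73eae, 0x4ed60e], [0x1d4d20e, 0x10af6c8, 0x19a9a0e, 0xeb360e], [0x3a70, 0x5326e], [0x85a0e, 0x11eb648, 0x33e70, 0x772c8], [0x6c6ae, 0xd12ee, 0x196462e, 0xd8d9d0]], 0, 207, [], 0, [⟨[.cnt 0 1, .img 0 1, .cell [3, 1, 48]], [[0xa7168]], [(2857, [[0x1a27ac8]]), (15605, [[0xebe9ce]]), (19168, [[0x253ac34c]]), (19772, [[0xab3dce]])]⟩]⟩])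
  (ops := [.cnt 0 1, .img 0 3, .cell [77, 55, 25, 68, 3, 4], .cnt 0 1, .cell [19, 59, 91, 50, 11], .cnt 0 1, .cell [39, 87, 61, 95, 15, 12], .cnt 0 1, .img 0 2])
  (adv := [[0xa7168], [0], [0x32e], [0x3ae]])
  (l := [50, 47, 41, 36, 35, 34, 33, 27, 20, 17, 18, 14, 11, 9, 8, 7, 6, 4, 2, 0]) (by decide +kernel)

theorem c9 : Cen 9 92160 := cen_of (c := 0x74a2) (d := 1) (by decide +kernel)
  (lv := [⟨[.fix [1], .cnt 0 4, .cell [2, 4, 6]], [[0, 0x8, 0xc, 0x168, 0x5ec8, 0xbc2c8, 0xbc22c, 0xd6dec, 0xbd5ec, 0xd55ec, 0x13670, 0xeb5ee, 0x9dec8, 0x9b72e, 0x5be2e, 0x8432e, 0x17e2dec, 0x8562e, 0x1153648, 0x10ac568, 0xb3f0e, 0x73eae, 0xf49ce, 0xcba6e, 0x1ca358e, 0x199382e, 0x175c98e, 0xc93a0e, 0x1271e0e, 0x10bba6e, 0x7ce6e]], 0, 3600, [], 0, []⟩, ⟨[.cnt 0 1, .img 0 3, .cell [17, 7, 1, 3, 4]], [[0x39d0]], 0, 275,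 [], 0, []⟩, ⟨[.cnt 0 1, .img 0 3, .cell [19, 17, 13, 14, 5, 6, 3]], [[0x2fae]], 0, 24677, [], 0, []⟩])
  (ops := [.cnt 0 1, .img 0 3, .cell [43, 25, 38, 18, 26, 3], .cnt 0 1, .cell [29, 45, 20, 22, 17, 30, 9, 6, 5], .cnt 0 1, .cell [33, 23, 49, 25, 27, 36, 47, 38, 20], .cnt 0 1, .img 0 1, .cell [43, 39, 31, 55, 53, 26, 15], .cnt 0 1, .cell [63, 37, 6, 11], .cnt 0 1, .cell [65, 51, 61, 11, 23], .cnt 0 1, .cell [69, 41, 65, 66, 54, 52, 23], .cnt 0 1, .cell [61, 57, 49, 69, 71, 17, 54, 34], .cnt 0 1])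
  (adv := [[0x139eb0e], [0x30e], [0x26e], [0x1ee], [0x3dec], [0xc], [0x34e], [0x28e], [0x22c]])
  (l := [39, 36, 37, 38, 32, 31, 30, 29, 26, 24, 23, 15, 13, 11, 10, 8, 6, 4, 2, 0]) (by decide +kernel)

theorem c10 : Cen 10 331776 := cen_of (c := 0x1b) (d := 3) (by decide +kernel)
  (lv := [⟨[.fix [1, 1], .cnt 0 6, .cell [7, 14]], [[0, 0x8, 0xc, 0xb84c2e, 0xc7d18e, 0x1b5d20e, 0x126c74c, 0x199382e, 0xa9e10, 0x272a4a48, 0x15e5b0e, 0xb96f4e, 0x1b9cdce, 0x1ba9e10, 0x10bba6e, 0x7ce6e, 0x15f3a2c, 0x5d20e, 0xb6dec8, 0x1363dce, 0x67552e, 0x156be2e, 0x197e610, 0x18d3f4e, 0x108d5ec, 0xe8d98e, 0x75d20e, 0x9cdce, 0x22fd5248, 0xec3dce, 0x1c9cdce, 0x2ef94a48, 0x131cdce, 0x1de7a0e, 0x3d264a48, 0x48420e, 0x10339ce, 0x1ef518e, 0x3437b648]], 0, 6, [], 0, []⟩, ⟨[.cnt 0 1, .img 0 3, .cell [25, 6, 22]], [[0x10]], 0, 0,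 [], 0, []⟩, ⟨[.cnt 0 1, .cell [31, 13, 1, 28], .cnt 0 1, .cell [21, 17, 5, 11], .cnt 0 4, .cell [23, 20, 7], .cnt 0 1, .img 0 2, .cell [39, 33, 28, 19, 10, 14], .cnt 0 2, .cell [25, 38, 7, 3]], [[0], [0x10bba6e], [0xcbf6e, 0xabec8, 0x64e6e, 0xca0ec8, 0x68a2e, 0x8bdee, 0x74670, 0xc3c98e], [0x4e6e], [0xac610, 0x1368e]], 0, 5073, [0x7, 0x755e, 0x10a4], 1, [⟨[.cnt 0 1, .img 0 1, .cell [3, 1, 49]], [[0x8cdd0]], [(3593, [[0x64dd0]]), (12525, [[0x16a662e]])]⟩, ⟨[.cnt 0 1, .img 0 3, .cell [7, 1, 53]], [[0x8cdd0]], [(8569, [[0x14d5c6c8]])]⟩]⟩, ⟨[.cnt 0 1, .img 0 3, .cell [47, 19, 21, 36, 7, 70]], [[0x8cdd0]], 0, 13561, [], 0, []⟩])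
  (ops := [.cnt 0 1, .img 0 3, .cell [65, 25, 61, 17, 15], .cnt 0 1, .img 0 1, .cell [55, 31, 80, 46, 24, 23, 21, 19], .cnt 0 1, .cell [79, 29, 69, 72, 23], .cnt 0 1, .img 0 2, .cell [83, 77, 49, 67, 50, 36, 33, 30], .cnt 0 1, .img 0 1, .cell [89, 83, 73, 98, 100, 54, 39, 21], .cnt 0 1, .img 0 2, .cell [93, 107, 80, 96, 90, 11, 44, 15, 32], .cnt 0 1])
  (adv := [[0xc959ce], [0x1ec], [0x26e], [0x36e], [0x2c8], [0x30e], [0x1ce]])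
  (l := [55, 50, 49, 48, 46, 45, 44, 42, 30, 27, 26, 25, 20, 16, 15, 13, 6, 4, 3, 2, 0]) (by decide +kernel)

theorem c11 : Cen 11 5806080 := cen_of (c := 0x1483) (d := 1) (by decide +kernel)
  (lv := [⟨[.fix [1]], [], 0, 0, [], 0, []⟩, ⟨[.cnt 0 1, .cell [5, 0, 2]], [[0]], 0, 1, [], 0, []⟩, ⟨[.cnt 0 1, .cell [5, 1]], [[0x8]], 0, 36, [], 0, []⟩, ⟨[.cnt 0 1, .cell [5, 2, 0]], [[0x574c]], 0, 53, [], 0, []⟩, ⟨[.cnt 0 1, .cell [11, 7, 0], .cnt 0 1, .cell [9, 5], .cnt 0 2, .cell [33, 29, 22, 16, 10], .cnt 0 2, .cell [23, 17, 34, 1, 7]], [[0xa2e], [0x63dec, 0xecc2e, 0x63b4e], [0xac568, 0x94f4e, 0xa3aa8], [0xe42b0, 0xb36ee, 0x10bba6e]], 0, 486, [], 0, []⟩])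
  (ops := [.cnt 0 1, .img 0 3, .cell [45, 40, 34, 21, 7], .cnt 0 1, .cell [49, 39, 44, 24, 11], .cnt 0 1, .cell [29, 49, 21, 26, 11, 58, 33], .cnt 0 1, .img 0 2, .cell [29, 34, 23, 44, 21, 56, 62, 17], .cnt 0 1, .img 0 2, .cell [59, 53, 43, 64, 74, 31, 21, 25], .cnt 0 1, .img 0 1, .cell [45, 43, 76, 59, 33, 22], .cnt 0 1])
  (adv := [[0x66b0], [0xc], [0xe], [0x762e], [0x720e], [0x330], [0x28e]])
  (l := [42, 41, 40, 38, 37, 34, 29, 23, 20, 19, 18, 17, 15, 13, 11, 9, 7, 5, 3, 2, 0]) (by decide +kernel)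

theorem c12 : Cen 12 25200 := cen_of (c := 0x6ae1) (d := 1) (by decide +kernel)
  (lv := [⟨[.fix [1]], [], 0, 0, [], 0, []⟩, ⟨[.cnt 0 1, .cell [5, 0, 2]], [[0]], 0, 1, [], 0, []⟩, ⟨[.cnt 0 1, .cell [5, 1], .cnt 0 2, .cell [13, 7, 3, 16]], [[0x8], [0x81ac8, 0x709ce, 0x199382e, 0x1255ac8]], 0, 2898, [], 0, []⟩, ⟨[.cnt 0 1, .img 0 4, .cell [27, 21, 15, 9, 3, 6, 4, 0]], [[0x426e]], 0, 3160, [], 0, []⟩])
  (ops := [.cnt 0 1, .img 0 4, .cell [39, 22, 34], .cnt 0 1, .cell [35, 33, 39, 44, 13, 11, 7], .cnt 0 1, .img 0 2, .cell [43, 46, 52, 19, 20, 17, 14, 13], .cnt 0 1])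
  (adv := [[0x7766e], [0x30e], [0x766e], [0x2eee]])
  (l := [29, 28, 26, 25, 22, 23, 19, 18, 17, 16, 15, 12, 10, 9, 8, 6, 4, 3, 2, 0]) (by decide +kernel)

theorem c13 : Cen 13 34992 := cen_of (c := 0x3587) (d := 1) (by decide +kernel)
  (lv := [⟨[.fix [1, 1, 1], .cell [3, 0], .cnt 0 4, .cell [7, 14]], [[0, 0x248, 0x16c8, 0x3710, 0x3a0e, 0x15f46c8, 0xb6f0e, 0xcc9ce, 0x1f78cec8, 0xe74aee, 0x2556dec8, 0x1d693648, 0x3794c6c8, 0x2b96f98e, 0x294139ce, 0xe661ce, 0x34b98dce, 0x573a2e, 0x20d7cec8, 0x7b6b1ce, 0x374d5ac8, 0x230c89ce, 0x718cec8, 0x37b420e, 0xdae31ce, 0x18e7bdce]], 0, 8, [0x2706ada4c7, 0x24ed3e26f3c55e76a5433, 0x3587], 4, [⟨[.img 0 2, .cnt 2 1, .cell [1, 3]], [[0xe]], [(329, [[0xbf4c]]), (482, [[0x5e62c]]), (693, [[0xd3d2e]]), (24214, [[0x31ab518e]]), (24245, [[0x1c173ec8]])]⟩]⟩, ⟨[.cnt 0 1, .img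 0 2, .cell [5, 3, 16, 1, 24]], [[0xe]], 0, 152, [], 0, []⟩, ⟨[.cnt 0 1, .img 0 5, .cell [25, 19, 20, 5, 8, 2]], [[0xe622c]], 0, 942, [], 0, []⟩])
  (ops := [.cnt 0 1, .img 0 3, .cell [33, 53, 31, 29, 44, 19], .cnt 0 1, .cell [41, 27, 19, 35, 32, 37, 9], .cnt 0 1, .cell [45, 25, 39, 37, 14, 21], .cnt 0 1, .img 0 2, .cell [49, 69, 47, 39, 35, 60], .cnt 0 1, .img 0 1, .cell [55, 53, 41, 74, 44, 23, 24], .cnt 0 1])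
  (adv := [[0x792ee], [0x32e], [0x2ee], [0x34c], [0x1b0e], [0x4e2c]])
  (l := [39, 36, 35, 29, 28, 27, 24, 23, 22, 20, 19, 16, 15, 14, 11, 9, 7, 6, 5, 2, 0]) (by decide +kernel)

theorem c14 : Cen 14 1296 := cen_of (c := 0x20b) (d := 1) (by decide +kernel)
  (lv := [⟨[.fix [1, 1, 1], .cnt 0 2, .cell [7, 4]], [[0, 0x1c63ac8, 0x139edec]], 0, 19, [], 0, []⟩, ⟨[.cnt 0 1, .img 0 1, .cell [1, 11, 17], .cnt 0 2, .cell [7, 17, 1]], [[0x7168], [0x16a3648, 0x9a26e, 0xc93a0e]], 0, 328, [], 0, []⟩, ⟨[.cnt 0 1, .img 0 3], [[0x36c8]], 8, 5259, [], 0, []⟩])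
  (ops := [.cnt 0 1, .img 0 1, .cell [41, 27, 21, 13], .cnt 0 1, .img 0 1, .cell [47, 41, 26, 19, 9], .cnt 0 1, .cell [31, 42, 35, 21, 22, 18, 7], .cnt 0 1, .cell [35, 46, 39, 9, 26, 10, 22, 20], .cnt 0 1, .cell [39, 50, 43, 29, 27, 13], .cnt 0 1, .img 0 1, .cell [51, 44, 25, 33, 36, 31, 7, 20], .cnt 0 1])
  (adv := [[0x9a26e], [0x662e], [0x44b30], [0x8], [0x32e], [0x22c], [0x3ae]])
  (l := [32, 30, 27, 26, 23, 24, 20, 19, 18, 17, 15, 14, 12, 11, 9, 8, 7, 3, 2, 0]) (by decide +kernel)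

theorem c15 : Cen 15 3888 := cen_of (c := 0x322) (d := 1) (by decide +kernel)
  (lv := [⟨[.fix [1, 1, 1]], [], 0, 0, [], 0, []⟩, ⟨[.cnt 0 1, .cell [5, 2]], [[0]], 0, 1, [], 0, []⟩, ⟨[.cnt 0 1, .cell [7, 1, 15], .cell [15, 12], .cnt 0 3, .cell [11, 16, 25, 2]], [[0x8], [0xae9ec, 0x1cd4ec8, 0x8d9ce, 0x8ae9ec, 0x9eb4c, 0x6e330, 0x16f9df4c, 0x2ad6d2c8, 0x22dcc6c8, 0x2b424a48, 0x1f274ec8, 0x16fac168, 0x379861ce, 0x3af7edce, 0x14d7a5ce, 0x19d6bdce, 0x1d1999ce, 0x2927cdce]], 0, 855, [], 0, []⟩, ⟨[.cnt 0 1, .img 0 2, .cell [15, 27, 21, 5, 3]], [[0x1dce]], 0, 4523, [], 0, []⟩])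
  (ops := [.cnt 0 1, .img 0 5, .cell [51, 28, 42, 36, 46, 17, 9], .cnt 0 1, .img 0 1, .cell [37, 27, 43, 24, 17, 13, 11], .cnt 0 1, .img 0 3])
  (adv := [[0xc911ce], [0x30e], [0x31d0]])
  (l := [33, 30, 29, 27, 26, 25, 22, 17, 16, 13, 12, 11, 10, 8, 6, 5, 0]) (by decide +kernel)

theorem c16 : Cen 16 5184 := cen_of (c := 0x6441) (d := 1) (by decide +kernel)
  (lv := [⟨[.fix [1, 1], .cnt 0 3, .cell [9, 6, 3]], [[0, 0x8, 0xabd2e, 0x166f2c8, 0x84eee, 0x1664f4c, 0x1b3648, 0x1784c2e, 0x7ce6e]], 0, 2140, [], 0, []⟩, ⟨[.cnt 0 1, .img 0 1, .cell [15, 3], .cnt 0 1, .cell [19, 14], .cnt 0 2, .cell [19, 13, 6, 10, 0]], [[0x3a6e], [0, 0x8, 0x7ce6e], [0xabd2e, 0x84eee, 0x1b3648]], 0, 4759, [], 0, []⟩])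
  (ops := [.cnt 0 1, .img 0 5, .cell [29, 37, 16, 26, 11, 5, 6, 8, 2, 0], .cnt 0 1, .cell [43, 33, 30, 13, 11], .cnt 0 1, .img 0 3, .cell [43, 41, 25, 23, 15], .cnt 0 1, .cell [47, 55, 44, 27, 28, 9, 10, 20], .cnt 0 1, .cell [39, 41, 58, 33, 29, 15], .cnt 0 1, .img 0 2, .cell [57, 65, 46, 48, 21, 38, 31, 34, 27], .cnt 0 1, .img 0 2])
  (adv := [[0x6160e], [0x2dec], [0x320e], [0x3a2e], [0x10], [0xe], [0x3ae]])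
  (l := [38, 35, 33, 32, 31, 30, 27, 23, 22, 21, 17, 14, 12, 10, 8, 6, 4, 1, 0]) (by decide +kernel)

theorem c17 : Cen 17 15552 := cen_of (c := 0x1cb) (d := 1) (by decide +kernel)
  (lv := [⟨[.fix [1, 1, 1], .cnt 0 3, .cell [11, 6, 4]], [[0, 0x2e0e, 0x49cf4c, 0x89ee48, 0x693d2e, 0x5ee6e, 0xd3e2e, 0x5ba6e, 0x78e0e, 0x10a19ce, 0x5ce6e]], 0, 11, [], 0, []⟩, ⟨[.cnt 0 1, .img 0 2, .cell [10, 5, 3, 1, 16]], [[0x2e]], 0, 64, [], 0, []⟩, ⟨[.cnt 0 1, .img 0 2, .cell [15, 13, 11, 22, 5, 3, 0]], [[0x26c8]], 0, 1211, [], 0, []⟩])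
  (ops := [.cnt 0 1, .img 0 2, .cell [41, 13, 11, 23, 21, 32, 4], .cnt 0 1, .img 0 1, .cell [47, 19, 17, 31, 27, 38, 10], .cnt 0 1, .cell [35, 33, 31, 42, 25, 22, 48, 50, 15], .cnt 0 1, .cell [53, 27, 38, 46, 28, 18], .cnt 0 1, .cell [59, 33, 31, 43, 39, 50, 18], .cnt 0 1, .img 0 2])
  (adv := [[0x6e70], [0x10], [0x190], [0x2ee], [0x310], [0x12e]])
  (l := [31, 32, 28, 29, 30, 25, 24, 23, 20, 19, 18, 14, 11, 10, 8, 6, 4, 2, 0]) (by decide +kernel)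

theorem c18 : Cen 18 62208 := cen_of (c := 0x76c2) (d := 1) (by decide +kernel)
  (lv := [⟨[.fix [1], .cnt 0 4, .cell [5, 1]], [[0, 0x1ad3648, 0x83290, 0xeae6e, 0x1b136c8, 0x8b60e, 0x7936c8, 0xa936c8, 0x1e7d648, 0x6c62e, 0x64a70, 0xc93a0e]], 0, 56, [], 0, []⟩, ⟨[.cnt 0 1, .img 0 4, .cell [14, 16, 9, 18, 5]], [[0x36e]], 0, 3, [], 0, []⟩, ⟨[.cnt 0 1, .img 0 1, .cell [21, 17, 13, 14, 2]], [[0x168]], 0, 4583, [], 0, []⟩])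
  (ops := [.cnt 0 1, .img 0 2, .cell [41, 39, 26], .cell [33, 15, 27, 29, 5], .cnt 0 1, .cell [29, 19, 39, 17, 40, 27], .cnt 0 1, .img 0 2, .cell [51, 49, 27, 40, 38, 17], .cnt 0 1, .img 0 1, .cell [55, 53, 41, 44, 32, 39, 25, 9, 30], .cnt 0 1, .img 0 3, .cell [67, 55, 62, 51, 42, 19, 25], .cnt 0 1])
  (adv := [[0x94e2e], [0x622c], [0x3b4e], [0x3eae], [0x8], [0x12e]])
  (l := [33, 34, 35, 30, 26, 23, 22, 17, 16, 12, 11, 10, 7, 6, 5, 4, 3, 2, 0]) (by decide +kernel)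

theorem c19 : Cen 19 10368 := cen_of (c := 0x2e5) (d := 1) (by decide +kernel)
  (lv := [⟨[.fix [1, 1], .cnt 0 4, .cell [11, 1]], [[0, 0x8, 0x15f46c8, 0xb160e, 0x1614a48, 0x4a0e, 0xd420e, 0x7a22e, 0x44a0e, 0xc3610, 0xcc9ce, 0x1185568, 0xd3ef0, 0xc93a0e, 0x7ce6e]], 0, 2, [], 0, []⟩, ⟨[.cnt 0 1, .img 0 1, .cell [17, 3], .cnt 0 1, .cell [19, 15], .cnt 0 2, .cell [21, 13, 6, 1, 26]], [[0xc], [0xcc9ce, 0xd3ef0, 0x7ce6e], [0x177b5ec, 0x5af30, 0x84330]], 0, 434, [], 0, []⟩])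
  (ops := [.cnt 0 1, .img 0 5, .cell [39, 23, 36, 28, 9, 3, 1, 6], .cnt 0 1, .img 0 3, .cell [29, 37, 21, 11, 14], .cnt 0 1, .cell [43, 53, 51, 21, 24, 15], .cnt 0 1, .cell [47, 55, 34, 21, 28, 11, 9], .cnt 0 1])
  (adv := [[0x2a6e], [0x10], [0x4aee], [0x726e], [0x330]])
  (l := [32, 28, 29, 30, 25, 24, 22, 19, 20, 16, 15, 14, 12, 11, 9, 8, 7, 4, 2, 0]) (by decide +kernel)

theorem c20 : Cen 20 41472 := cen_of (c := 0x4961) (d := 1) (by decide +kernel)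
  (lv := [⟨[.fix [1, 1], .cnt 0 4, .cell [11, 2]], [[0x6248, 0x18e, 0x74a6e, 0x4066e, 0xe32c8, 0xa2ac8, 0xc326e, 0x8e5ce, 0x10b6e48, 0x8426e, 0xbcdd0, 0x5ce6e, 0x7c5d0, 0x1784c2e, 0x17cbe6e]], 0, 1, [], 0, []⟩, ⟨[.cnt 0 1, .img 0 1, .cell [17, 15, 2], .cnt 0 1, .cell [17, 15, 22, 5, 6]], [[0x8], [0x5ce6e]], 0, 84, [], 0, []⟩, ⟨[.cnt 0 1, .img 0 4, .cell [37, 30, 21, 9]], [[0x430e]], 0, 36, [], 0, []⟩, ⟨[.cnt 0 1, .img 0 1, .cell [39, 29, 17, 37, 27, 44, 14, 2]], [[0x574c]], 0, 400, [], 0, []⟩])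
  (ops := [.cnt 0 1, .img 0 2, .cell [49, 25, 47, 26, 23, 20, 50, 36, 33, 4], .cnt 0 1, .img 0 1, .cell [55, 19, 33, 29, 60, 42, 30, 10], .cnt 0 1, .img 0 1, .cell [65, 25, 50, 39], .cnt 0 1, .cell [59, 41, 56, 29, 21], .cnt 0 1, .img 0 1, .cell [71, 35, 48, 25, 26, 46, 23, 40], .cnt 0 1])
  (adv := [[0xa3a0e], [0], [0xe], [0x18e], [0x310], [0x1ee]])
  (l := [35, 36, 34, 33, 32, 29, 26, 25, 24, 23, 19, 18, 15, 12, 11, 10, 8, 7, 5, 3, 2, 0]) (by decide +kernel)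

theorem c21 : Cen 21 373248 := cen_of (c := 0x7468b) (d := 1) (by decide +kernel)
  (lv := [⟨[.fix [1, 1, 1], .cnt 0 4, .cell [2, 12, 10]], [[0, 0x8, 0xc3a6e, 0xba6e, 0xec32c8, 0x766ae, 0x84f4e, 0x5c2b0, 0x14c6e48, 0xecd568, 0x3bac8, 0xeb76c8, 0x1d9c568, 0xd3a6e, 0x7ba6e, 0xe3a6e, 0x98a10, 0xd368e, 0x9a26e, 0x7ce6e]], 0, 286, [], 0, []⟩, ⟨[.cnt 0 1, .img 0 5, .cell [17, 11, 9]], [[0x570e]], 0, 290, [], 0, []⟩])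
  (ops := [.cnt 0 1, .img 0 5, .cell [25, 32, 21, 22, 9, 7, 10], .cnt 0 1, .img 0 2, .cell [23, 15, 18, 20], .cnt 0 1, .img 0 2, .cell [57, 55, 5, 12], .cnt 0 1, .cell [47, 57, 52, 23, 8, 6, 36], .cnt 0 1, .cell [61, 35, 41, 9, 12, 28], .cnt 0 1, .img 0 2, .cell [71, 58, 39, 21, 42, 18, 25], .cnt 0 1])
  (adv := [[0x6b0e], [0xd130e], [0xb35ec], [0], [0x10], [0x3ae], [0x310]])
  (l := [38, 39, 36, 31, 30, 27, 26, 22, 21, 18, 16, 15, 14, 12, 10, 9, 8, 6, 4, 2, 0]) (by decide +kernel)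

theorem c22 : Cen 22 5038848 := cen_of (c := 0x17) (d := 3) (by decide +kernel)
  (lv := [⟨[.fix [1], .cnt 0 4], [[0, 0x8, 0xbc26e, 0x33a6e, 0xc426e, 0x11796c8, 0x8bef0, 0x84b30, 0x1da0e, 0x9a3f4c, 0x8bdee, 0xe5b6c8, 0xf7dec8, 0x9ba6e, 0x426e, 0xfa7168, 0x551ce, 0x1285568, 0x4a3f4c, 0x7f6ae, 0xdd2ac8, 0xdc26e, 0x1469248, 0x1185568, 0x3368e, 0xc6b6c8, 0x97066e, 0x7ce6e]], 2, 114, [], 0, []⟩, ⟨[.cnt 0 1, .img 0 2, .cell [8, 5, 12, 10, 2]], [[0x398e]], 0, 1432, [], 0, []⟩, ⟨[.cnt 0 1, .img 0 5, .cell [33, 21, 30]], [[0x45ce]], 0, 4233, [], 0, []⟩])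
  (ops := [.cnt 0 1, .cell [27, 25, 1, 7, 9], .cnt 0 1, .img 0 3, .cell [45, 37, 25, 27, 11], .cnt 0 1, .img 0 1, .cell [43, 39, 25, 27, 17], .cnt 0 1, .cell [45, 43, 31, 29, 21], .cnt 0 1, .cell [51, 49, 37, 35, 25], .cnt 0 1, .img 0 1, .cell [57, 67, 55, 47, 3, 1], .cnt 0 1, .img 0 2, .cell [71, 61, 64, 62, 69, 39, 49, 52, 50, 18], .cnt 0 1, .cell [69, 79, 74, 59, 42, 35, 32], .cnt 0 1, .cell [83, 78, 69, 46, 53, 23], .cnt 0 1, .cell [87, 50, 13, 16, 31, 58, 1], .cnt 0 1, .cell [81, 77, 71, 61, 13, 35], .cnt 0 1, .cell [97, 84, 59, 1], .cnt 0 1])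
  (adv := [[0xdc26e], [0xb6d1ce], [0xd86e48], [0x864b0e], [0x12c728e], [0x1cc95648], [0x22c], [0x3ae], [0x1ee], [0x2f0], [0x10], [0x2ae], [0x8]])
  (l := [50, 47, 48, 49, 44, 43, 42, 39, 38, 37, 31, 28, 27, 24, 23, 8, 6, 4, 2, 0]) (by decide +kernel)

theorem c23 : Cen 23 248832 := cen_of (c := 0x1b) (d := 2) (by decide +kernel)
  (lv := [⟨[.fix [1, 1, 1]], [], 0, 0, [], 0, []⟩, ⟨[.cnt 0 1, .cell [5, 1], .cnt 0 2, .cell [11, 6, 8]], [[0], [0x10bba6e, 0x48420e, 0x10339ce]], 0, 1, [], 0, []⟩, ⟨[.cnt 0 1, .cell [5, 1], .cnt 0 2, .cell [19, 25, 22]], [[0x8], [0x199382e, 0x1ef518e, 0x3437b648]], 0, 437, [], 0, []⟩, ⟨[.cnt 0 1, .img 0 1, .cell [1, 32, 35, 14]], [[0x7adec]], 0, 72, [], 0, []⟩])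
  (ops := [.cnt 0 1, .img 0 2, .cell [45, 13, 25, 1], .cnt 0 1, .img 0 2, .cell [33, 21, 11, 5, 2, 41], .cnt 0 1, .img 0 2, .cell [29, 49, 9, 20, 16, 12, 37], .cnt 0 1, .img 0 2, .cell [61, 49, 35, 29, 27, 21], .cnt 0 1, .cell [65, 53, 39, 33, 30, 24, 22, 58], .cnt 0 1, .img 0 3])
  (adv := [[0x22ae], [0xdba6e], [0x66e], [0x622c], [0x6336e], [0x5ba6e]])
  (l := [38, 37, 34, 32, 31, 28, 29, 25, 24, 21, 20, 19, 17, 15, 11, 9, 8, 7, 5, 1, 0]) (by decide +kernel)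

theorem c24 : Cen 24 155520 := cen_of (c := 0x3a4) (d := 1) (by decide +kernel)
  (lv := [⟨[.fix [1, 1, 1]], [], 0, 0, [], 0, []⟩, ⟨[.cnt 0 1, .cell [5, 0, 2]], [[0]], 0, 1, [], 0, []⟩, ⟨[.cnt 0 1, .cell [11, 7, 1], .cnt 0 2, .cell [7, 12, 19, 16]], [[0x8], [0x8766e, 0xcb374c, 0xba358e]], 0, 68, [], 0, []⟩, ⟨[.cnt 0 1, .img 0 1, .cell [1, 26, 29]], [[0x5568]], 0, 1672, [], 0, []⟩, ⟨[.cnt 0 1, .img 0 2, .cell [35, 31, 13, 24]], [[0xdce2c]], 0, 1265, [], 0, []⟩])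
  (ops := [.cnt 0 1, .cell [37, 31, 19, 16, 1, 10, 8, 25], .cnt 0 1, .img 0 2, .cell [45, 27, 19, 15, 35], .cnt 0 1, .cell [47, 31, 13, 37], .cnt 0 1, .cell [53, 47, 33, 34, 27, 23, 16], .cnt 0 1, .img 0 3, .cell [43, 33, 36, 7, 26, 1, 2, 4, 15], .cnt 0 1, .cell [61, 48, 46, 37, 40, 38, 15, 55, 30, 23], .cnt 0 1, .img 0 3])
  (adv := [[0x5a60e], [0x67aae], [0x6d590], [0xf658e], [0x85a90], [0x34e], [0x2ae]])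
  (l := [39, 36, 35, 32, 28, 25, 23, 16, 12, 10, 5, 2, 1, 0]) (by decide +kernel)

theorem c25 : Cen 25 622080 := cen_of (c := 0x3b9) (d := 1) (by decide +kernel)
  (lv := [⟨[.fix [1]], [], 0, 0, [], 0, [⟨[.cnt 0 1, .cell [1, 5]], [[0]], [(3156, [[0xac26e]]), (7834, [[0x1784c2e]])]⟩]⟩, ⟨[.cnt 0 1, .cell [5, 0, 2]], [[0]], 0, 1, [], 0, []⟩, ⟨[.cnt 0 1, .cell [5, 1]], [[0x8]], 0, 149, [], 0, []⟩, ⟨[.cnt 0 1, .cell [5, 1], .cnt 0 1, .cell [21, 17, 10, 5], .cnt 0 2, .cell [27, 23, 17, 10], .cnt 0 1, .cell [21, 15, 5, 11, 0]], [[0x7a2e], [0x54c2e, 0x66e], [0x6f60e, 0xa358e], [0x155e648, 0x12cb5ec]], 0, 53, [], 0, []⟩])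
  (ops := [.cnt 0 1, .img 0 5, .cell [41, 17, 11], .cnt 0 1, .cell [35, 24, 40, 15, 11, 12, 46, 7], .cnt 0 1, .cell [31, 35, 51, 9, 18, 12], .cnt 0 1, .img 0 1])
  (adv := [[0xa2e], [0xe], [0x1ec], [0x3e8e]])
  (l := [29, 28, 26, 25, 20, 17, 15, 12, 11, 10, 9, 7, 5, 3, 1, 0]) (by decide +kernel)

theorem c26 : Cen 26 39191040 := cen_of (c := 0x3d7) (d := 1) (by decide +kernel)
  (lv := [⟨[.fix [1, 1], .cell [3, 0]], [], 0, 2, [], 0, []⟩, ⟨[.cnt 0 1, .img 0 1, .cell [7, 3]], [[0xc]], 0, 81, [], 0, []⟩, ⟨[.cnt 0 1, .img 0 1, .cell [17, 10, 3]], [[0x3aee]], 0, 7, [], 0, []⟩, ⟨[.cnt 0 1, .cell [5, 1]], [[0x1ec]], 0, 257, [], 0, []⟩, ⟨[.cnt 0 1, .cell [5, 1]], [[0x558e]], 0, 1424, [], 0, []⟩, ⟨[.cnt 0 1, .cell [29, 13, 21, 27, 6, 34, 1]], [[0x7deee]], 0, 162, [], 0, []⟩])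
  (ops := [.cnt 0 1, .img 0 2, .cell [17, 11, 30, 22, 5, 3, 46, 38, 28], .cnt 0 1, .img 0 1, .cell [43, 29, 23, 17, 52, 44, 10, 6], .cnt 0 1, .cell [47, 41, 27, 21, 48, 56, 15, 11], .cnt 0 1, .cell [49, 45, 36, 24, 19], .cnt 0 1, .cell [55, 49, 35, 29, 56, 64, 23, 21], .cnt 0 1, .img 0 3, .cell [71, 51, 59, 65, 25], .cnt 0 1, .cell [59, 42, 29, 36, 14], .cnt 0 1, .cell [52, 46, 15, 13, 9, 38, 40, 80, 18], .cnt 0 1])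
  (adv := [[0xb30], [0x1ee], [0x3568], [0x6b4c], [0x5ac8], [0x5f4c], [0x2ee], [0x248], [0x12e]])
  (l := [42, 43, 39, 38, 35, 34, 31, 28, 25, 22, 21, 20, 18, 17, 15, 13, 11, 4, 2, 0]) (by decide +kernel)

theorem c27 : Cen 27 840 := cen_of (c := 0x364) (d := 1) (by decide +kernel)
  (lv := [⟨[.fix [1]], [], 0, 0, [], 0, []⟩, ⟨[.cnt 0 1, .cell [5, 0, 2]], [[0]], 0, 1, [], 0, []⟩, ⟨[.cnt 0 1, .cell [5, 1]], [[0x8]], 0, 4150, [], 0, []⟩, ⟨[.cnt 0 1, .cell [11, 8, 1], .cnt 0 1, .cell [21, 17, 10, 4], .cnt 0 1, .cell [21, 15, 9, 5], .cnt 0 4, .cell [31, 25, 19, 14, 3]], [[0xd4e6e], [0xc], [0x5ce6e], [0x10b6e48, 0x8426e, 0x84c2e, 0xba358e, 0x1c84c2e, 0xe3a6e, 0xdc26e, 0x1469248, 0xa3f0e, 0x8066e, 0x9a26e, 0x126c74c, 0x1c13a6e, 0xe94f4c, 0x1784c2e, 0x148b6c8, 0x1271e0e, 0xda3dec, 0x126ea2e, 0x108d5ec, 0x1384c2e]],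 0, 1380, [], 0, []⟩])
  (ops := [.cnt 0 1, .img 0 4, .cell [21, 19, 44, 38, 8], .cnt 0 1, .img 0 3, .cell [33, 18, 10], .cnt 0 1, .img 0 2])
  (adv := [[0x8b610], [0xac2c8], [0x8426e]])
  (l := [32, 31, 29, 28, 25, 21, 20, 16, 18, 13, 12, 11, 7, 6, 5, 4, 2, 0]) (by decide +kernel)

theorem c28 : Cen 28 384 := cen_of (c := 0x51a2) (d := 1) (by decide +kernel)
  (lv := [⟨[.fix [1, 1], .cnt 0 2, .cell [7, 4], .cnt 0 2], [[0x862c8, 0x3579c62c, 0x35ce552e], [0x1eae, 0x776ae, 0x1d65f2c8, 0x108cec8]], 2, 33, [], 0, []⟩, ⟨[.cnt 0 1, .img 0 1], [[0x1eae]], 8, 625, [], 0, []⟩, ⟨[.cnt 0 1, .cell [7, 12, 18]], [[0x862c8]], 0, 11, [0xba1117def6738e269beb70d, 0x2ed5d0973cc6277d4f4b83936, 0x1e193620a766deb5ea589468673, 0x28d151a2], 1, [⟨[.img 0 1, .cnt 1 1, .cell [1, 3]], [[0x2e]], [(13, [[0x1248]]), (123, [[0x13b4c]]),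 (195, [[0xcd248]]), (235, [[0x5b6c8]]), (455, [[0xbb20e]]), (1284, [[0xf3c6c8]]), (4345, [[0x1ae72c8]]), (8032, [[0x28b9ce]]), (10829, [[0x1494a6e]]), (14822, [[0x1ad25ce]]), (15178, [[0x1ab19ce]]), (21643, [[0x46d690]])]⟩, ⟨[.cnt 0 1, .img 0 1, .cell [3, 1, 9]], [[0x2e]], [(136, [[0x2e8e]]), (145, [[0x1a90]]), (150, [[0xe10]]), (155, [[0x474c]]), (171, [[0x3c62c]]), (213, [[0x2eee]]), (233, [[0x8c2c8]]), (253, [[0x596c8]]), (258, [[0xe0e]]), (285, [[0x37310]]), (295, [[0x63dec]]), (320, [[0xa10]]), (384, [[0x3d648]]), (413, [[0x15ce]]), (425, [[0x1e6ae]]), (434, [[0x2a6e]]), (524, [[0x8b18e]]), (585, [[0xbed2e]]), (641, [[0x8118e]]), (748, [[0x54c2e]]), (796, [[0x592ee]]), (881, [[0xbdfae]]), (947, [[0x9e3568]]), (955, [[0x1896248]]), (961, [[0x10b3568]]), (1036, [[0x3c5ce]]), (1087, [[0xd6190]]),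 (1182, [[0xd0a0e]]), (1210, [[0x305ce]]), (1264, [[0xa2e0e]]), (1289, [[0x1ae0e]]), (1634, [[0x17c9ac8]]), (1644, [[0xe7310]]), (1746, [[0x8536e]]), (1939, [[0x191edce]]), (2106, [[0x1dbed2e]]), (2217, [[0x5a8e]]), (2780, [[0xeeb4e]]), (3432, [[0x1e7b648]]), (3781, [[0x175dec8]]), (3886, [[0x5ae90]]), (4457, [[0xf60dce]]), (4623, [[0xe95ce]]), (5340, [[0x1dd3d8e]]), (9742, [[0x1bd8dce]]), (10357, [[0xbe45ce]]), (10437, [[0xcb9d0]]), (11554, [[0x19d99ce]]), (12567, [[0x1c96e90]]), (13310, [[0x16a46c8]]), (13408, [[0x107474c]]), (13424, [[0x2b5ae9ec]]), (13438, [[0x38b74a48]]), (13727, [[0x20993648]]), (14677, [[0xe520e]]), (14745, [[0x33c93568]]), (14775, [[0x5cd9ce]]), (15641, [[0x19b15ce]]), (15700, [[0xbad60e]]), (15738, [[0x1c7c5ce]]), (16305, [[0x210cef4c]]), (18394, [[0x31cc9248]]), (18399, [[0x16791ce]])]⟩,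 ⟨[.img 0 2, .cnt 2 1, .cell [1, 3]], [[0x2e]], [(6, [[0x10]]), (10, [[0x1ee]]), (35, [[0x3ae]]), (54, [[0x4d90]]), (63, [[0x1ac8]]), (73, [[0x22e]]), (78, [[0xf30]]), (98, [[0x87248]]), (113, [[0xa474c]]), (409, [[0x9c98e]]), (11230, [[0x1d3d60e]]), (14678, [[0x1eb25ce]]), (15566, [[0x11a8a0e]])]⟩, ⟨[.img 0 3, .cnt 3 1, .cell [1, 3]], [[0x2e]], [(17, [[0x34c]]), (37, [[0x4f0e]]), (93, [[0x4d8e]]), (372, [[0x5dc2e]]), (13418, [[0x13d552e]]), (14871, [[0x2526ca48]])]⟩]⟩])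
  (ops := [.cnt 0 1, .img 0 7, .cell [25, 11, 12, 9, 14, 32, 3, 5], .cnt 0 1, .img 0 1, .cell [27, 17, 18, 15, 20, 11, 12, 7], .cnt 0 1, .img 0 1, .cell [31, 25, 23, 17, 19, 20, 15], .cnt 0 1, .cell [49, 29, 30, 27, 25, 22], .cnt 0 1, .img 0 2, .cell [57, 45, 39, 37, 34, 31, 32], .cnt 0 1, .cell [54, 53, 39, 40, 37, 42, 35, 33], .cnt 0 1, .img 0 1])
  (adv := [[0x2e], [0], [0x8], [0x10], [0xc], [0x190], [0x18e]])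
  (l := [35, 32, 29, 24, 23, 22, 21, 20, 18, 17, 16, 14, 13, 12, 11, 9, 7, 6, 5, 3, 1, 0]) (by decide +kernel)

end Cfsg.Agent.TAB.F23C
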