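import Cfsg.Agent.Fischer.Fi23Orb
import Cfsg.Agent.Lib.PermNetPt

/-!
# `Fi₂₃` : codes of words and the representatives of the 92 types (helper21, TAB)

A code is a word in digits of five bits, the least significant one first: `1, …, 10` are the generators
`a b c d e f g j h i`; `11, 13, …, 29` are the words of `xl`, and `12, 14, …, 30` their inverses.
-/

set_option autoImplicit false

namespace Cfsg.Agent.TAB.F23C

open Cfsg.Agent.Lib.PermNetPt (force)
open Cfsg.Agent.Fischer.Fi23Orb (word)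
open Cfsg.Spor Cfsg.Spor.Fi23

/-- ten words -/
def xl : List (List Gen) := [[.c, .g, .e, .b, .d, .j, .a, .h, .f], [.b, .c, .e, .d, .f, .c, .h, .e, .b, .i, .d, .f, .g, .a, .h, .c, .j],
    [.c, .d, .h, .f, .e, .b, .c, .d, .b, .i, .f, .g, .a, .h, .e, .j], [.e, .c, .h, .d, .e, .b, .f, .h, .i, .c, .g,
    .e, .a, .b, .d], [.h, .d, .c, .e, .f, .g, .a, .b, .i, .d, .b, .e, .h, .i, .c, .f, .a, .g, .b], [.g, .e, .a, .b,
    .i, .h, .d, .c, .f, .a, .b, .h, .d, .e, .g, .i, .c, .f, .g, .i], [.h, .c, .d, .a, .e, .i, .f, .b, .f, .d, .c,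
    .h, .b, .e, .i, .a, .f], [.i, .b, .h, .a, .e, .f, .c, .d, .a, .b, .f, .e, .i, .h, .d, .c, .f, .a], [.d, .c, .b,
    .e, .h, .a, .i, .b, .h, .d, .a, .c, .i, .e, .b], [.c, .b, .a, .e, .h, .i, .d, .c, .e, .h, .a, .b, .d, .i, .d,
    .e]]

/-- the letters -/
def al : List (List Gen) := [[], [.a], [.b], [.c], [.d], [.e], [.f], [.g], [.j], [.h], [.i]] ++
  xl.flatMap fun w => [w, w.reverse]

/-- the digits of a code -/
noncomputable def dec (f : ℕ) : ℕ → List ℕ :=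
  Nat.rec (motive := fun _ => ℕ → List ℕ) (fun _ => [])
    (fun _ ih n => Bool.rec (Nat.mod n 32 :: force (Nat.div n 32) ih) [] (Nat.beq n 0)) f

/-- the word of a code -/
noncomputable def wd (c : ℕ) : List Gen := (dec 5000 c).flatMap fun d => al.getD d []

/-- the element of a code -/
noncomputable def el (c : ℕ) : Fi23 := word (wd c)

/-- the codes of the roots of the representatives -/
def rc : List ℕ := [0, 3399, 40, 9, 619, 31330, 27, 65, 26084, 29858, 27, 5251, 27361, 13703, 523, 802, 25665, 459, 30402, 741,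
    18785, 476811, 23, 27, 932, 953, 983, 868, 20898, 931, 783, 356, 17930, 23, 26979, 15, 17537, 25, 801, 17, 674,
    612, 609, 682, 804, 26978, 31075, 676, 19554, 871, 618, 27, 610, 24193, 22088, 19, 419, 549, 847, 353, 22977,
    11, 359, 744, 28289, 23, 853, 685, 907, 938575, 417, 25, 21, 673, 17, 13, 483, 548, 22949, 19, 15, 971, 591,
    358, 418, 13665, 420, 23009, 422, 486, 362, 874]

/-- the exponents -/
def re : List ℕ := [1, 1, 1, 1, 1, 1, 4, 1, 1, 1, 3, 1, 1, 1, 1, 1, 1, 1, 1, 1, 1, 1, 3, 2, 1, 1, 1, 1, 1, 1, 1, 1, 1, 2, 1, 3, 1,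
    2, 1, 2, 1, 1, 1, 1, 1, 1, 1, 1, 1, 1, 1, 1, 1, 1, 1, 2, 1, 1, 1, 1, 1, 1, 1, 1, 1, 1, 1, 1, 1, 1, 1, 1, 1, 1,
    1, 1, 1, 1, 1, 1, 1, 1, 1, 1, 1, 1, 1, 1, 1, 1, 1, 1]

/-- the representative of the type `s` -/
noncomputable def x23 (s : ℕ) : Fi23 := el (rc.getD s 0) ^ re.getD s 0

end Cfsg.Agent.TAB.F23C
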